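import Cfsg.Agent.Lib.Cert.U43.M
import Cfsg.Agent.Lib.Cert.Sch2

set_option autoImplicit false
set_option maxRecDepth 100000

namespace Cfsg.Agent.Ct.U43s.S2

open Cfsg.Agent.PC

open Cfsg.Agent.Fi Cfsg.Agent.Ct
def W_t : TL := (TL.node (TL.node (TL.node (TL.node (TL.node (TL.leaf []) (TL.leaf [nat_lit 4, nat_lit 5, nat_lit 3, nat_lit 5, nat_lit 4, nat_lit 2, nat_lit 6, nat_lit 4, nat_lit 2, nat_lit 0, nat_lit 5, nat_lit 3, nat_lit 3])) (TL.leaf [nat_lit 5, nat_lit 4, nat_lit 2, nat_lit 4, nat_lit 5, nat_lit 4, nat_lit 5, nat_lit 4, nat_lit 0, nat_lit 6, nat_lit 5, nat_lit 1, nat_lit 6, nat_lit 3, nat_lit 6, nat_lit 5, nat_lit 4, nat_lit 6])) (TL.node (TL.leaf [nat_lit 0, nat_lit 5, nat_lit 4, nat_lit 5, nat_lit 0, nat_lit 4, nat_lit 5, nat_lit 3, nat_lit 1, nat_lit 6, nat_lit 5, nat_lit 1, nat_lit 0, nat_lit 6]) (TL.leaf [nat_lit 6, nat_lit 5, nat_lit 4, nat_lit 6, nat_lit 2, nat_lit 4, nat_lit 6, nat_lit 5, nat_lit 1, nat_lit 4, nat_lit 4, nat_lit 5, nat_lit 6, nat_lit 3, nat_lit 5, nat_lit 4, nat_lit 5, nat_lit 0, nat_lit 2]))) (TL.node (TL.node (TL.node (TL.leaf [nat_lit 1, nat_lit 3,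 nat_lit 5, nat_lit 6, nat_lit 2, nat_lit 4, nat_lit 5, nat_lit 3, nat_lit 5, nat_lit 4, nat_lit 6, nat_lit 5, nat_lit 2, nat_lit 3, nat_lit 2, nat_lit 5]) (TL.leaf [nat_lit 0, nat_lit 5, nat_lit 4, nat_lit 5, nat_lit 0, nat_lit 1, nat_lit 6, nat_lit 3, nat_lit 6, nat_lit 3, nat_lit 1, nat_lit 5, nat_lit 6, nat_lit 1])) (TL.leaf [nat_lit 1, nat_lit 6, nat_lit 5, nat_lit 4, nat_lit 6, nat_lit 3, nat_lit 6, nat_lit 3, nat_lit 1, nat_lit 0, nat_lit 5, nat_lit 4, nat_lit 0, nat_lit 5, nat_lit 3])) (TL.node (TL.leaf [nat_lit 5, nat_lit 4, nat_lit 2, nat_lit 4, nat_lit 5, nat_lit 4, nat_lit 5, nat_lit 4, nat_lit 6, nat_lit 5, nat_lit 0, nat_lit 6, nat_lit 3, nat_lit 3, nat_lit 5, nat_lit 1]) (TL.leaf [nat_lit 0, nat_lit 5, nat_lit 4, nat_lit 5, nat_lit 2, nat_lit 3, nat_lit 6, nat_lit 2, nat_lit 3, nat_lit 1, nat_lit 4, nat_lit 6, nat_lit 1, nat_lit 0, nat_lit 5, nat_lit 0])))) (TL.node (TL.node (TL.node (TL.node (TL.leaf [nat_lit 0, nat_lit 5, nat_lit 4, nat_lit 5, nat_lit 0, nat_lit 2, nat_lit 6, nat_lit 3, nat_lit 6, nat_lit 1, nat_lit 5, nat_lit 4, nat_lit 6, nat_lit 1, nat_lit 0, nat_lit 5,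 nat_lit 6, nat_lit 4, nat_lit 5, nat_lit 2, nat_lit 6]) (TL.leaf [nat_lit 2, nat_lit 6, nat_lit 4, nat_lit 6, nat_lit 1, nat_lit 6, nat_lit 5, nat_lit 0, nat_lit 6, nat_lit 0, nat_lit 4, nat_lit 5, nat_lit 3, nat_lit 5, nat_lit 4, nat_lit 2])) (TL.leaf [nat_lit 1, nat_lit 3, nat_lit 5, nat_lit 4, nat_lit 1, nat_lit 5, nat_lit 4, nat_lit 5, nat_lit 3, nat_lit 1, nat_lit 3, nat_lit 6, nat_lit 4, nat_lit 6, nat_lit 3, nat_lit 1, nat_lit 5])) (TL.node (TL.leaf [nat_lit 4, nat_lit 5, nat_lit 3, nat_lit 5, nat_lit 3, nat_lit 0, nat_lit 5, nat_lit 4, nat_lit 5, nat_lit 0, nat_lit 6, nat_lit 2, nat_lit 5, nat_lit 6, nat_lit 3, nat_lit 6, nat_lit 1]) (TL.leaf [nat_lit 1, nat_lit 3, nat_lit 5, nat_lit 6, nat_lit 2, nat_lit 4, nat_lit 5, nat_lit 4, nat_lit 5, nat_lit 3, nat_lit 2, nat_lit 4, nat_lit 5, nat_lit 0]))) (TL.node (TL.node (TL.leaf [nat_lit 3, nat_lit 0, nat_lit 5, nat_lit 3, nat_lit 0, nat_lit 5, nat_lit 3, nat_lit 2, nat_lit 3, nat_lit 6, nat_lit 3, nat_lit 5, nat_lit 1, nat_lit 6, nat_lit 5, nat_lit 3, nat_lit 5, nat_lit 0, nat_lit 5, nat_lit 3]) (TL.leaf [nat_lit 0, nat_lit 1, nat_lit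 3, nat_lit 5, nat_lit 3, nat_lit 1, nat_lit 5, nat_lit 4, nat_lit 5, nat_lit 3, nat_lit 5, nat_lit 6, nat_lit 2, nat_lit 3, nat_lit 1, nat_lit 6, nat_lit 3, nat_lit 5, nat_lit 6])) (TL.node (TL.leaf [nat_lit 0, nat_lit 6, nat_lit 5, nat_lit 3, nat_lit 6, nat_lit 4, nat_lit 5, nat_lit 6, nat_lit 0]) (TL.leaf [nat_lit 4, nat_lit 5, nat_lit 3, nat_lit 6, nat_lit 5, nat_lit 4, nat_lit 0, nat_lit 5, nat_lit 0, nat_lit 4, nat_lit 5, nat_lit 3, nat_lit 3, nat_lit 6])))))
noncomputable def W (i : ℕ) : List ℕ := TL.get W_t i
def B : List ℕ := [nat_lit 2, nat_lit 0, nat_lit 1]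
noncomputable def q (j : ℕ) : U43.P := ev U43.al (W j)
noncomputable def Q (j : ℕ) : ℕ → ℕ := trF U43.T (W j)
theorem md : Md U43.pt 540 B q Q 19 := (U43.md0).words' (by decide +kernel)
def I (i : ℕ) : ℕ := Nat.land (Nat.shiftRight (nat_lit 0xa8000ac2c0b42e0bc0000000000000000000000000000000000000000000000000000000000000000000000000000000000000000000000000000000000000000000000000000000000000000000000090250002609c280a4000000000000000000000000000000000000000000000000000000000000000000000000000000000000000000000000000000000000000000000000000000000000000000000000000000000000000000000000000000000000000000000000000000000000000000000000000000000000000000000000000000000000000000000000000000000000000000000000000000000078000000007c200842208c0000000000000000000000000000000000000000000000000000000000000000000000000000000000000000000000000000000000000000000000000000000000000000007400070000000000000000000000000000000000000000000000000000000000000000000000000000000000000000000000000000000000000000000000000000000000000000000000000000000000740006c150000000000000000000000000000000000000000000000000000000000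00000000000000000000000000000000000000000000000000000000000000000000000000000000000000000000074000681403c00000000000000000000000000000000000000000000000000000000000000000000000000000000000000000000000000000000000000000000000000000000000000000000000000007400064130380a000000000000000000000000000000000000000000000000000000000000000000000000000000000000000000000000000000000000000000000000000000000000000000000000007400060120340901800000000000000000000000000000000000000000000000000000000000000000000000000000000000000000000000000000000000000000000000000000000000000000000000740005c11030080140300000000000000000000000000000000000000000000000000000000000000000000000000000000000000000000000000000000000000000000000000000000000000000000074000581002c0701002004000000000000000000000000000000000000000000000000000000000000000000000000000000000000000000000000000000000000000000000000000000000000000000740000000000000000000000) (Nat.mul (nat_lit 10) i)) (nat_lit 1023)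
def Ru_t1 : TN := (TN.node (TN.node (TN.node (TN.node (TN.leaf (nat_lit 0)) (TN.leaf (nat_lit 0x8084187000000000204142))) (TN.leaf (nat_lit 0x46000000000046082))) (TN.node (TN.node (TN.leaf (nat_lit 0x84000000000084082)) (TN.leaf (nat_lit 0x284000000000282082))) (TN.leaf (nat_lit 0x420c70000000000c7102)))) (TN.node (TN.node (TN.node (TN.leaf (nat_lit 0x43000000000043082)) (TN.leaf (nat_lit 0xa1070000000002870c2))) (TN.leaf (nat_lit 0xc4146000000000146102))) (TN.node (TN.node (TN.leaf (nat_lit 0x85000000000085082)) (TN.leaf (nat_lit 0x2c11070000000002c4102))) (TN.leaf (nat_lit 0x1c7002)))))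
def Ru_t2 : TN := (TN.node (TN.node (TN.node (TN.node (TN.leaf (nat_lit 0x42000000000042082)) (TN.leaf (nat_lit 0x2020c4000000000202102))) (TN.leaf (nat_lit 0x20c60000000000c60c2))) (TN.node (TN.node (TN.leaf (nat_lit 0x104002)) (TN.leaf (nat_lit 0x2c10840000000002c7102))) (TN.leaf (nat_lit 0x11470000000001470c2)))) (TN.node (TN.node (TN.node (TN.leaf (nat_lit 0x10000000000c3042)) (TN.leaf (nat_lit 0xa0420000000002840c2))) (TN.leaf (nat_lit 0x47000000000047082))) (TN.node (TN.node (TN.leaf (nat_lit 0x21050000000001050c2)) (TN.leaf (nat_lit 0x2c10000000002c2082))) (TN.leaf (nat_lit 0x80c4187000000000209142)))))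
def Ru_t3 : TN := (TN.node Ru_t1 Ru_t2)
def Ru_t4 : TN := (TN.node (TN.node (TN.node (TN.node (TN.leaf (nat_lit 266242)) (TN.leaf (nat_lit 0x8083187000000000203142))) (TN.leaf (nat_lit 0x10860000000000860c2))) (TN.node (TN.node (TN.leaf (nat_lit 0x10c40000000000c40c2)) (TN.leaf (nat_lit 0x281000000000281082))) (TN.leaf (nat_lit 0x107000000000107082)))) (TN.node (TN.node (TN.node (TN.leaf (nat_lit 0x83000000000083082)) (TN.leaf (nat_lit 0xa083107000000000286142))) (TN.leaf (nat_lit 0x4000000000186042))) (TN.node (TN.node (TN.leaf (nat_lit 0x420c50000000000c5102)) (TN.leaf (nat_lit 0xb0421470000000002c3142))) (TN.leaf (nat_lit 0x187000000000009081)))))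
def Ru_t5 : TN := (TN.node (TN.node (TN.node (TN.node (TN.leaf (nat_lit 532482)) (TN.leaf (nat_lit 0x201000000000201082))) (TN.leaf (nat_lit 0x106000000000106082))) (TN.node (TN.node (TN.leaf (nat_lit 0x45000000000045082)) (TN.leaf (nat_lit 0x2c20c41470000000002c5182))) (TN.leaf (nat_lit 0x44187000000000187102)))) (TN.node (TN.node (TN.node (TN.leaf (nat_lit 0x44000000000044082)) (TN.leaf (nat_lit 0xa044187000000000283142))) (TN.leaf (nat_lit 0x87000000000087082))) (TN.node (TN.node (TN.leaf (nat_lit 0x2000000000145042)) (TN.leaf (nat_lit 0xb0420000000002c10c2))) (TN.leaf (nat_lit 0x201085187000000000205182)))))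
def Ru_t6 : TN := (TN.node Ru_t4 Ru_t5)
def Ru_t : TN := (TN.node Ru_t3 Ru_t6)
noncomputable def Ru (i : ℕ) : ℕ := TN.get Ru_t i
def D_t1 : TN := (TN.node (TN.node (TN.node (TN.node (TN.leaf (nat_lit 0x20000000000000001)) (TN.leaf (nat_lit 0x100000000000000070000000000000000000000000000000000000000000000000000000000000000000000000000000000000000000000000000000000000000000000000000000000000000000000000000000000000000000000000000000000000021))) (TN.node (TN.leaf (nat_lit 0x2000000000000000100000000000000000000000000000000000000000000000100000011)) (TN.leaf (nat_lit 0x70000000000000000000000070000000000000000000000000000000000000000000000000000000000000000000000000000000000000007000000000000000000000001000000010000000000000000000000000000000000000000000000000000000000000000000000000000000000000000000000000000000000000001000000000000000100000000000000000000000000000000000000010000000000000031)))) (TN.node (TN.node (TN.leaf (nat_lit 0x20000000000000000000000000000000000000000000000000000000000000000000000000000000000000000000000000000000000000000000000000000000000000000000000000000000000000000000000000000000000000000000000000000000000000000000000000000000000000000000000000000000000000000000000000000000000000000000000000000000000000000000000000000000000000009))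 (TN.leaf (nat_lit 0x70000000000000002000000000000000000000000000000000000000000000000000000000000000000000000000000000000000000000000000000000000000000000000000000000000000100000000000000010000000000000000000000010000000100000000000000000000000000000000000000000000000000000001000000000000000000000001000000000000000000000000000000000000000000000007000000000000000000000001000000010000000100000029))) (TN.node (TN.leaf (nat_lit 0x20000000100000000000000000000000000000000000000000000000000000000000000070000000000000000000000000000000000000000000000000000000100000019)) (TN.leaf (nat_lit 0x700000000000000000000000200000000000000000000000100000001000000010000000000000000000000010000000100000001000000010000000100000000000000000000000100000000000000030000000100000001000000010000000100000001000000030000000000000000000000010000000000000003000000030000000300000039))))) (TN.node (TN.node (TN.node (TN.leaf (nat_lit 0x20000000000000000000000000000000000000000000000000000000000000000000000000000000000000000000000000000000000000000000000000000000000000000000000000000000000000000000000000000000000000005)) (TN.leaf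 (nat_lit 0x70000000000000000000000000000000000000000000000000000000000000000000000000000000000000000000000000000000000000000000000000000000100000000000000000000000000000000000000010000000000000025))) (TN.node (TN.leaf (nat_lit 0x20000000000000000000000000000000000000000000000000000000000000000000000000000000000000000000000000000000000000000000000000000000000000000000000000000000000000000000000000000000000000000000000000000000000000000000000000000000000000000000000000000000000000000000000000000000000000000000000000000000000000000000000000000000000000000000000000000000000000001000000010000000000000015)) (TN.leaf (nat_lit 0x70000000000000000000000000000000000000002000000060000000000000000000000000000000100000001000000000000000000000000000000000000000700000001000000010000000700000000000000000000000000000000000000000000000100000001000000000000000200000001000000000000000100000001000000010000000200000035)))) (TN.node (TN.node (TN.leaf (nat_lit 0x10000000000000000000000000000000000000000000000000000000000000000000000000000000000000000000000000000000000000000000000000000000000000000000000000000000d))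 (TN.leaf (nat_lit 0x2000000010000000100000000000000000000000000000001000000000000000000000000000000010000000100000002000000000000000100000002000000010000000100000002000000010000002d))) (TN.leaf (nat_lit 0x200000000000000000000000000000000000000000000000000000000000000000000000000000000000000000000000000000000000000070000000000000000000000000000000000000000000000000000000000000000000000000000000000000000000000000000000000000000000000000000000000000000000000010000000000000001000000010000000000000000000000000000000100000001000000010000001d)))))
def D_t2 : TN := (TN.node (TN.node (TN.node (TN.node (TN.leaf (nat_lit 0x200000000000000000000000000000000000000000000000000000000000000000000000000000000000000000000000000000000000000000000000000000000000000000000000000000000000000000000000000000003)) (TN.leaf (nat_lit 0x6000000000000000100000000000000000000000000000000000000000000000000000000000000000000000000000000000000070000000000000007000000060000000000000023))) (TN.node (TN.leaf (nat_lit 0x2000000000000000000000000000000000000000000000000000000000000000000000000000000000000000100000000000000000000000000000000000000000000000000000000000000000000000000000000000000000000000000000000000000000000000100000000000000000000000000000000000000000000000000000000000000000000000000000013))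 (TN.leaf (nat_lit 0x70000000000000000000000000000000000000000000000000000000000000000000000000000000000000000000000000000000000000000000000000000000000000000000000000000000000000000000000010000000700000000000000010000000000000000000000000000000000000000000000000000000000000000000000070000000000000000000000070000000000000007000000010000000000000000000000000000000000000007000000000000000000000033)))) (TN.node (TN.node (TN.leaf (nat_lit 0x10000000000000000000000000000000b)) (TN.leaf (nat_lit 0x7000000020000000000000000000000000000000000000000000000000000000000000000000000010000000000000000000000010000000100000001000000000000000700000000000000000000000000000000000000000000000000000000000000000000000000000000000000010000000100000000000000010000000100000000000000000000000100000002000000010000002b))) (TN.node (TN.leaf (nat_lit 0x6000000000000000000000000000000000000000000000007000000000000000000000000000000000000000700000000000000000000001b)) (TN.leaf (nat_lit 0x7000000000000000700000007000000000000000000000000000000070000000700000006000000050000000600000000000000070000000700000006000000000000000600000006000000060000000000000007000000070000000000000007000000060000000100000000000000050000000700000000000000060000000400000007000000040000003b)))))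 (TN.node (TN.node (TN.node (TN.leaf (nat_lit 0x20000000000000000000000000000000000000000000000000000000000000000000000000000000000000000000000000000000000000000000000000000000000000000000000000000000000000000000000000000000000000000000000000000000000000000000000000000000000000000000000000000000000000000000000000000000000000007)) (TN.leaf (nat_lit 0x6000000000000000100000000000000000000000000000000000000000000000000000000000000000000000000000000000000000000000000000000000000000000000000000000000000070000000700000007000000070000000700000027))) (TN.node (TN.leaf (nat_lit 0x200000000000000000000000000000000000000000000000000000000000000000000000700000000000000000000000000000000000000000000000000000017)) (TN.leaf (nat_lit 0x700000000000000000000000200000000000000000000000000000000000000000000000000000000000000000000000000000000000000000000000000000000000000000000000100000000000000010000000100000001000000010000000000000000000000000000000000000000000000000000000000000000000000010000000100000000000000000000000100000001000000020000000200000001000000010000000100000003000000040000000200000037)))) (TN.node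 (TN.node (TN.leaf (nat_lit 0x60000000000000000000000000000000000000000000000000000000000000000000000000000000000000000000000000000000000000000000000000000000f)) (TN.leaf (nat_lit 0x6000000000000000000000001000000000000000000000007000000070000000000000000000000070000000700000006000000070000000700000007000000000000000700000006000000070000002f))) (TN.leaf (nat_lit 0x200000001000000000000000000000000000000000000000000000000000000000000000700000000000000000000000000000000000000000000000100000000000000000000001f)))))
def D_t3 : TN := (TN.node D_t1 D_t2)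
def D_t4 : TN := (TN.node (TN.node (TN.node (TN.node (TN.leaf (nat_lit 0x200000000000000000000000000000000000000000000000000000002)) (TN.leaf (nat_lit 0x200000001000000010000000000000000000000000000000000000000000000010000000000000001000000010000000100000022))) (TN.node (TN.leaf (nat_lit 0x20000000000000000000000000000000100000000000000000000000000000000000000000000000000000000000000000000000000000000000000000000000000000000000000000000000000000000000000000000000000000000000000000000000100000012)) (TN.leaf (nat_lit 0x100000001000000000000000000000000000000000000000000000000000000000000000700000000000000010000000000000000000000010000000000000007000000010000000700000000000000010000000000000001000000000000000000000032)))) (TN.node (TN.node (TN.leaf (nat_lit 0x20000000000000000000000000000000000000000000000000000000000000000000000000000000000000000000000000000000000000000000000000000000000000000000000000000000000000000000000000000000000000000000000000000000000000000000000000000000000000000000000000000000000000000000000000000000000000000000000000000000000000000000000000000000000000000000000000000000700000000000000010000000a))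 (TN.leaf (nat_lit 0x2000000000000000000000000000000010000000100000000000000010000000000000001000000000000000100000000000000000000000000000001000000010000000000000000000000000000000000000000000000010000000000000001000000010000000000000000000000000000000100000001000000010000002a))) (TN.node (TN.leaf (nat_lit 0x200000001000000010000000000000000000000000000000000000000000000000000000000000000000000000000000000000000000000000000000000000000000000000000000000000000000000000000000100000001000000010000001a)) (TN.leaf (nat_lit 0x70000000000000000000000000000000000000000000000000000000000000007000000010000000000000000000000070000000000000007000000070000000000000001000000000000000000000006000000000000000100000007000000070000000500000005000000000000000700000007000000000000000700000005000000060000003a))))) (TN.node (TN.node (TN.node (TN.leaf (nat_lit 0x200000000000000000000000000000000000000000000000000000000000000000000000000000000000000000000000000000000000000000000000000000000000000000000000000000000000000000000000000000000000000000000000000000006)) (TN.leaf (nat_lit 0x100000000000000000000000000000000000000000000000000000000000000000000000000000000000000000000000000000000000000070000000100000000000000000000000000000000000000000000000000000026)))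 (TN.node (TN.leaf (nat_lit 0x20000000000000000000000000000000000000000000000000000000000000000000000070000000000000016)) (TN.leaf (nat_lit 0x70000000700000000000000000000000000000000000000000000000000000000000000000000000000000000000000000000000000000000000000000000000000000000000000000000000000000000000000000000000700000007000000070000000700000000000000000000000000000000000000000000000000000000000000070000000000000007000000070000000000000000000000010000000100000000000000000000000000000007000000070000000700000036)))) (TN.node (TN.node (TN.leaf (nat_lit 0x6000000000000000000000000000000000000000000000000000000000000000000000000000000000000000e)) (TN.leaf (nat_lit 0x7000000000000000200000000000000000000000000000000000000010000000100000000000000000000000100000001000000000000000100000000000000010000000100000000000000000000000000000000000000000000000000000000000000010000000000000000000000000000000000000001000000010000000200000003000000010000002e))) (TN.leaf (nat_lit 0x2000000000000000000000000000000000000000000000000000000000000000000000000000000000000000000000000000000000000000000000000000000010000000000000000000000010000000000000000000000010000000000000000000000000000000000000000000000000000000000000000000000000000000000000000000000000000000000000000000000010000000000000000000000000000000000000000000000010000001e)))))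
def D_t5 : TN := (TN.node (TN.node (TN.node (TN.node (TN.leaf (nat_lit 0x20000000000000000000000000000000000000000000000000000000000000004)) (TN.leaf (nat_lit 0x200000000000000000000000000000000000000000000000000000000000000000000000000000000000000000000000000000000000000000000000000000000000000000000000000000000000000000000000000000000000000000000000100000001000000010000000000000001000000010000000100000000000000020000000100000024))) (TN.node (TN.leaf (nat_lit 0x20000000000000000000000000000000000000000000000000000000000000000000000000000000000000000000000000000000000000000000000000000000000000000000000000000000000000000000000000000000000000000000000000000000000000000000000000000000700000000000000000000000000000000000000000000000000000001000000010000000100000014)) (TN.leaf (nat_lit 0x100000001000000010000000000000000000000000000000100000001000000000000000100000000000000000000000000000000000000000000000000000001000000070000000100000000000000070000000000000001000000020000000100000034)))) (TN.node (TN.node (TN.leaf (nat_lit 0x100000000000000000000000000000000000000000000000000000000000000000000000000000000000000000000000c))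 (TN.leaf (nat_lit 0x7000000000000000000000000000000000000000000000000000000000000000000000000000000000000000000000000000000000000000000000000000000010000000000000000000000000000000000000000000000000000000000000007000000000000000000000000000000000000000000000000000000000000000700000007000000000000000000000000000000000000000000000007000000070000002c))) (TN.node (TN.leaf (nat_lit 0x200000000000000010000000000000000000000010000000000000000000000000000000000000000000000000000000000000000000000000000000000000000000000010000000000000000000000010000000000000000000000000000000000000000000000010000001c)) (TN.leaf (nat_lit 0x6000000010000000000000000000000000000000000000000000000020000000000000000000000000000000000000000000000000000000000000000000000000000000000000000000000000000000000000001000000000000000000000000000000000000000000000000))))) (TN.node (TN.node (TN.node (TN.leaf (nat_lit 0x200000000000000000000000000000000000000000000000000000000000000000000000000000000000000000000000000000000000000000000000000000000000000000000000000000000000000000000000000000000000000000000000000000000000000000000000000000000000000000000000100000000000000000000000000000000000000000000000000000007000000000000000000000008))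 (TN.leaf (nat_lit 0x70000000000000002000000000000000000000000000000000000000000000000000000000000000000000000000000000000000100000001000000000000000100000000000000000000000100000001000000000000000000000000000000000000000000000000000000000000000000000000000000000000000200000000000000000000000100000007000000000000000000000000000000000000000100000028))) (TN.node (TN.leaf (nat_lit 0x60000000000000000000000000000000000000000000000000000000000000000000000000000000000000000000000000000000000000000000000070000000700000018)) (TN.leaf (nat_lit 0x70000000000000000000000000000000000000000000000000000000000000000000000000000000100000001000000000000000000000000000000000000000100000001000000070000000100000000000000000000000000000000000000000000000000000000000000010000000100000000000000010000000700000001000000030000000000000038)))) (TN.node (TN.node (TN.leaf (nat_lit 0x60000000000000000000000000000000000000010)) (TN.leaf (nat_lit 0x70000000700000000000000000000000000000000000000000000000000000000000000000000000000000000000000000000000000000001000000000000000000000007000000000000000100000000000000000000000700000000000000000000000000000000000000000000000000000000000000000000000000000000000000000000000000000000000000000000000000000000000000000000000000000030)))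 (TN.leaf (nat_lit 0x60000000000000000000000010000000000000000000000000000000000000000000000000000000000000000000000000000000000000000000000070000000000000000000000000000000000000000000000000000000000000000000000000000000700000020)))))
def D_t6 : TN := (TN.node D_t4 D_t5)
def D_t : TN := (TN.node D_t3 D_t6)
noncomputable def D (i : ℕ) : ℕ := TN.get D_t i
def La_t1 : TN := (TN.node (TN.node (TN.node (TN.node (TN.leaf (nat_lit 0x40400040000040002020004040404000000060006060602000600000400000206060607000704060600000302060402000100000000000000)) (TN.leaf (nat_lit 0x60400040600060000020004000006000404060000040004020600020100040402000102000601000000030200020500020207000400000000000000))) (TN.node (TN.leaf (nat_lit 0x700000000000000000000)) (TN.leaf (nat_lit 0x20000040400040000040002060004040000000000060006020202040604000000000202020205000100010200000106060002000300000000000000)))) (TN.node (TN.node (TN.leaf (nat_lit 0x1000000000000000500000000000000000000000000)) (TN.leaf (nat_lit 0x60400040200020000060006000002000200060000040101060604010404040401000003060302000704000400060200020605000400000000000000)))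 (TN.leaf (nat_lit 0x40000000400040004040002060004000400000004020604000604020400040406000002020403000504000100000702000202000300000000000000)))) (TN.node (TN.node (TN.node (TN.leaf (nat_lit 0)) (TN.leaf (nat_lit 0))) (TN.node (TN.leaf (nat_lit 0)) (TN.leaf (nat_lit 0)))) (TN.node (TN.node (TN.leaf (nat_lit 0)) (TN.leaf (nat_lit 0))) (TN.leaf (nat_lit 0)))))
def La_t2 : TN := (TN.node (TN.node (TN.node (TN.node (TN.leaf (nat_lit 0)) (TN.leaf (nat_lit 0))) (TN.node (TN.leaf (nat_lit 0)) (TN.leaf (nat_lit 0)))) (TN.node (TN.node (TN.leaf (nat_lit 0)) (TN.leaf (nat_lit 0))) (TN.leaf (nat_lit 0)))) (TN.node (TN.node (TN.node (TN.leaf (nat_lit 0)) (TN.leaf (nat_lit 0))) (TN.node (TN.leaf (nat_lit 0)) (TN.leaf (nat_lit 0)))) (TN.node (TN.node (TN.leaf (nat_lit 0)) (TN.leaf (nat_lit 0))) (TN.leaf (nat_lit 0)))))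
def La_t3 : TN := (TN.node La_t1 La_t2)
def La_t4 : TN := (TN.node (TN.node (TN.node (TN.node (TN.leaf (nat_lit 0)) (TN.leaf (nat_lit 0x2020400040001050506000304050200040700040203060407050305000102000404000203000300010700010702020106000000000000000000))) (TN.node (TN.leaf (nat_lit 0)) (TN.leaf (nat_lit 0x70002020400040000040004000204000004000004000604060400000004000602000606040600000400020200020000000202000000000000000000)))) (TN.node (TN.node (TN.leaf (nat_lit 0)) (TN.leaf (nat_lit 0))) (TN.leaf (nat_lit 0)))) (TN.node (TN.node (TN.node (TN.leaf (nat_lit 0)) (TN.leaf (nat_lit 0))) (TN.node (TN.leaf (nat_lit 0)) (TN.leaf (nat_lit 0)))) (TN.node (TN.node (TN.leaf (nat_lit 0)) (TN.leaf (nat_lit 0))) (TN.leaf (nat_lit 0)))))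
def La_t5 : TN := (TN.node (TN.node (TN.node (TN.node (TN.leaf (nat_lit 0)) (TN.leaf (nat_lit 0))) (TN.node (TN.leaf (nat_lit 0)) (TN.leaf (nat_lit 0)))) (TN.node (TN.node (TN.leaf (nat_lit 0)) (TN.leaf (nat_lit 0))) (TN.leaf (nat_lit 0)))) (TN.node (TN.node (TN.node (TN.leaf (nat_lit 0)) (TN.leaf (nat_lit 0))) (TN.node (TN.leaf (nat_lit 0)) (TN.leaf (nat_lit 0)))) (TN.node (TN.node (TN.leaf (nat_lit 0)) (TN.leaf (nat_lit 0))) (TN.leaf (nat_lit 0)))))
def La_t6 : TN := (TN.node La_t4 La_t5)
def La_t7 : TN := (TN.node La_t3 La_t6)
def La_t8 : TN := (TN.node (TN.node (TN.node (TN.node (TN.leaf (nat_lit 0)) (TN.leaf (nat_lit 0))) (TN.node (TN.leaf (nat_lit 0)) (TN.leaf (nat_lit 0x40400000200020007060006040502010204020004000306040701000505040403000000000604000500040000030400010301000600000000000000)))) (TN.node (TN.node (TN.leaf (nat_lit 0)) (TN.leaf (nat_lit 0x400020600060002020004020306010604060004060200050503040105000204000703000406000400070300000601010003000100000000000000))) (TN.leaf (nat_lit 0x20000020000000006000000000400060400000004040703010605010700040205000504000507000400010200060302010504000000000000000000))))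 (TN.node (TN.node (TN.node (TN.leaf (nat_lit 0)) (TN.leaf (nat_lit 0))) (TN.node (TN.leaf (nat_lit 0)) (TN.leaf (nat_lit 0)))) (TN.node (TN.node (TN.leaf (nat_lit 0)) (TN.leaf (nat_lit 0))) (TN.leaf (nat_lit 0)))))
def La_t9 : TN := (TN.node (TN.node (TN.node (TN.node (TN.leaf (nat_lit 0)) (TN.leaf (nat_lit 0))) (TN.node (TN.leaf (nat_lit 0)) (TN.leaf (nat_lit 0)))) (TN.node (TN.node (TN.leaf (nat_lit 0)) (TN.leaf (nat_lit 0))) (TN.leaf (nat_lit 0)))) (TN.node (TN.node (TN.node (TN.leaf (nat_lit 0)) (TN.leaf (nat_lit 0))) (TN.node (TN.leaf (nat_lit 0)) (TN.leaf (nat_lit 0)))) (TN.node (TN.node (TN.leaf (nat_lit 0)) (TN.leaf (nat_lit 0))) (TN.leaf (nat_lit 0)))))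
def La_t10 : TN := (TN.node La_t8 La_t9)
def La_t11 : TN := (TN.node (TN.node (TN.node (TN.node (TN.leaf (nat_lit 0)) (TN.leaf (nat_lit 0))) (TN.node (TN.leaf (nat_lit 0)) (TN.leaf (nat_lit 0x60400040200020006060006060602060000020004020503020202050206040501000604060201000304060400040502040205000700000000000000)))) (TN.node (TN.node (TN.leaf (nat_lit 0)) (TN.leaf (nat_lit 0))) (TN.leaf (nat_lit 0)))) (TN.node (TN.node (TN.node (TN.leaf (nat_lit 0)) (TN.leaf (nat_lit 0))) (TN.node (TN.leaf (nat_lit 0)) (TN.leaf (nat_lit 0)))) (TN.node (TN.node (TN.leaf (nat_lit 0)) (TN.leaf (nat_lit 0))) (TN.leaf (nat_lit 0)))))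
def La_t12 : TN := (TN.node (TN.node (TN.node (TN.node (TN.leaf (nat_lit 0)) (TN.leaf (nat_lit 0))) (TN.node (TN.leaf (nat_lit 0)) (TN.leaf (nat_lit 0)))) (TN.node (TN.node (TN.leaf (nat_lit 0)) (TN.leaf (nat_lit 0))) (TN.leaf (nat_lit 0)))) (TN.node (TN.node (TN.node (TN.leaf (nat_lit 0)) (TN.leaf (nat_lit 0))) (TN.node (TN.leaf (nat_lit 0)) (TN.leaf (nat_lit 0)))) (TN.node (TN.node (TN.leaf (nat_lit 0)) (TN.leaf (nat_lit 0))) (TN.leaf (nat_lit 0)))))
def La_t13 : TN := (TN.node La_t11 La_t12)
def La_t14 : TN := (TN.node La_t10 La_t13)
def La_t15 : TN := (TN.node La_t7 La_t14)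
def La_t16 : TN := (TN.node (TN.node (TN.node (TN.node (TN.leaf (nat_lit 0)) (TN.leaf (nat_lit 0x70000000000000000000000))) (TN.node (TN.leaf (nat_lit 0x400040006040004000204020000000004040604040601000102000002000504000000000200070000020000030602000000000000000000)) (TN.leaf (nat_lit 0x40400000200020000060006020002040400060004060002000406060204040402000300060004000300010400020402040201000100000000000000)))) (TN.node (TN.node (TN.leaf (nat_lit 0x20400000200020002060006060602020400060000060602000604060006000400000400020407000300000000000306060401000300000000000000)) (TN.leaf (nat_lit 0x400060200020000060006060002020404060000020505070603030507040205000706060504000500030000060402010101000300000000000000))) (TN.leaf (nat_lit 0x60400040200020000060004060002000604020000060305020004030402040403000006000701000404040200060506020405000300000000000000)))) (TN.node (TN.node (TN.node (TN.leaf (nat_lit 0)) (TN.leaf (nat_lit 0))) (TN.node (TN.leaf (nat_lit 0)) (TN.leaf (nat_lit 0)))) (TN.node (TN.node (TN.leaf (nat_lit 0)) (TN.leaf (nat_lit 0))) (TN.leaf (nat_lit 0)))))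
def La_t17 : TN := (TN.node (TN.node (TN.node (TN.node (TN.leaf (nat_lit 0)) (TN.leaf (nat_lit 0))) (TN.node (TN.leaf (nat_lit 0)) (TN.leaf (nat_lit 0)))) (TN.node (TN.node (TN.leaf (nat_lit 0)) (TN.leaf (nat_lit 0))) (TN.leaf (nat_lit 0)))) (TN.node (TN.node (TN.node (TN.leaf (nat_lit 0)) (TN.leaf (nat_lit 0))) (TN.node (TN.leaf (nat_lit 0)) (TN.leaf (nat_lit 0)))) (TN.node (TN.node (TN.leaf (nat_lit 0)) (TN.leaf (nat_lit 0))) (TN.leaf (nat_lit 0)))))
def La_t18 : TN := (TN.node La_t16 La_t17)
def La_t19 : TN := (TN.node (TN.node (TN.node (TN.node (TN.leaf (nat_lit 0)) (TN.leaf (nat_lit 0))) (TN.node (TN.leaf (nat_lit 0)) (TN.leaf (nat_lit 0x40407070600060000020004000306000004060004000506030602040604000701000503020506000404030300030604060507000000000000000000)))) (TN.node (TN.node (TN.leaf (nat_lit 0)) (TN.leaf (nat_lit 0))) (TN.leaf (nat_lit 0)))) (TN.node (TN.node (TN.node (TN.leaf (nat_lit 0)) (TN.leaf (nat_lit 0))) (TN.node (TN.leaf (nat_lit 0)) (TN.leaf (nat_lit 0)))) (TN.node (TN.node (TN.leaf (nat_lit 0)) (TN.leaf (nat_lit 0))) (TN.leaf (nat_lit 0)))))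
def La_t20 : TN := (TN.node (TN.node (TN.node (TN.node (TN.leaf (nat_lit 0)) (TN.leaf (nat_lit 0))) (TN.node (TN.leaf (nat_lit 0)) (TN.leaf (nat_lit 0)))) (TN.node (TN.node (TN.leaf (nat_lit 0)) (TN.leaf (nat_lit 0))) (TN.leaf (nat_lit 0)))) (TN.node (TN.node (TN.node (TN.leaf (nat_lit 0)) (TN.leaf (nat_lit 0))) (TN.node (TN.leaf (nat_lit 0)) (TN.leaf (nat_lit 0)))) (TN.node (TN.node (TN.leaf (nat_lit 0)) (TN.leaf (nat_lit 0))) (TN.leaf (nat_lit 0)))))
def La_t21 : TN := (TN.node La_t19 La_t20)
def La_t22 : TN := (TN.node La_t18 La_t21)
def La_t23 : TN := (TN.node (TN.node (TN.node (TN.node (TN.leaf (nat_lit 0)) (TN.leaf (nat_lit 0x60402020600060006020006040706000204060004000406060601040501040606000306060601000500010100020502010207000200000000000000))) (TN.node (TN.leaf (nat_lit 0)) (TN.leaf (nat_lit 0x5000000030004000000000000020307000404000600030300000000000000000000000000)))) (TN.node (TN.node (TN.leaf (nat_lit 0)) (TN.leaf (nat_lit 0x7000000000000000000000000))) (TN.leaf (nat_lit 0x60402020200020000060006000202040200060000040206060206040206040200000400060603000700000600040700000201000400000000000000))))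 (TN.node (TN.node (TN.node (TN.leaf (nat_lit 0)) (TN.leaf (nat_lit 0))) (TN.node (TN.leaf (nat_lit 0)) (TN.leaf (nat_lit 0)))) (TN.node (TN.node (TN.leaf (nat_lit 0)) (TN.leaf (nat_lit 0))) (TN.leaf (nat_lit 0)))))
def La_t24 : TN := (TN.node (TN.node (TN.node (TN.node (TN.leaf (nat_lit 0)) (TN.leaf (nat_lit 0))) (TN.node (TN.leaf (nat_lit 0)) (TN.leaf (nat_lit 0)))) (TN.node (TN.node (TN.leaf (nat_lit 0)) (TN.leaf (nat_lit 0))) (TN.leaf (nat_lit 0)))) (TN.node (TN.node (TN.node (TN.leaf (nat_lit 0)) (TN.leaf (nat_lit 0))) (TN.node (TN.leaf (nat_lit 0)) (TN.leaf (nat_lit 0)))) (TN.node (TN.node (TN.leaf (nat_lit 0)) (TN.leaf (nat_lit 0))) (TN.leaf (nat_lit 0)))))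
def La_t25 : TN := (TN.node La_t23 La_t24)
def La_t26 : TN := (TN.node (TN.node (TN.node (TN.node (TN.leaf (nat_lit 0)) (TN.leaf (nat_lit 0))) (TN.node (TN.leaf (nat_lit 0)) (TN.leaf (nat_lit 0)))) (TN.node (TN.node (TN.leaf (nat_lit 0)) (TN.leaf (nat_lit 0))) (TN.leaf (nat_lit 0)))) (TN.node (TN.node (TN.node (TN.leaf (nat_lit 0)) (TN.leaf (nat_lit 0))) (TN.node (TN.leaf (nat_lit 0)) (TN.leaf (nat_lit 0)))) (TN.node (TN.node (TN.leaf (nat_lit 0)) (TN.leaf (nat_lit 0))) (TN.leaf (nat_lit 0)))))
def La_t27 : TN := (TN.node (TN.node (TN.node (TN.node (TN.leaf (nat_lit 0)) (TN.leaf (nat_lit 0))) (TN.node (TN.leaf (nat_lit 0)) (TN.leaf (nat_lit 0)))) (TN.node (TN.node (TN.leaf (nat_lit 0)) (TN.leaf (nat_lit 0))) (TN.leaf (nat_lit 0)))) (TN.node (TN.node (TN.node (TN.leaf (nat_lit 0)) (TN.leaf (nat_lit 0))) (TN.node (TN.leaf (nat_lit 0)) (TN.leaf (nat_lit 0)))) (TN.node (TN.node (TN.leaf (nat_lit 0)) (TN.leaf (nat_lit 0))) (TN.leaf (nat_lit 0)))))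
def La_t28 : TN := (TN.node La_t26 La_t27)
def La_t29 : TN := (TN.node La_t25 La_t28)
def La_t30 : TN := (TN.node La_t22 La_t29)
def La_t : TN := (TN.node La_t15 La_t30)
noncomputable def La (i : ℕ) : ℕ := TN.get La_t i
def Le_t : TN := (TN.leaf (nat_lit 0x400000600060004040206060406000000020004020604000004040000040400000006060602050704040200060206020203000300000000000000))
noncomputable def Le (i : ℕ) : ℕ := TN.get Le_t i
def C_t1 : TN := (TN.node (TN.node (TN.node (TN.node (TN.leaf (nat_lit 0)) (TN.leaf (nat_lit 0))) (TN.node (TN.leaf (nat_lit 0)) (TN.leaf (nat_lit 0)))) (TN.node (TN.node (TN.leaf (nat_lit 0)) (TN.leaf (nat_lit 0))) (TN.node (TN.leaf (nat_lit 0)) (TN.leaf (nat_lit 0))))) (TN.node (TN.node (TN.node (TN.leaf (nat_lit 0x2000000000000000000000000000000000000000000000000000000000000000000000000000000000000000200000000000000000000000000000006000000000000000000000000000000000000000000000001000000000000000000000000000000000000000000000000000000000000000400000000000000000000000000000002000000000000000000000000000000000000000000000000000000000000000000000000)) (TN.leaf (nat_lit 0)))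 (TN.node (TN.leaf (nat_lit 0)) (TN.leaf (nat_lit 0)))) (TN.node (TN.node (TN.leaf (nat_lit 0)) (TN.leaf (nat_lit 0))) (TN.node (TN.leaf (nat_lit 0)) (TN.leaf (nat_lit 0))))))
def C_t2 : TN := (TN.node (TN.node (TN.node (TN.node (TN.leaf (nat_lit 0x4000000000000000000000000000000000000000000000000000000000000000000000000000000000000000400000000000000000000000000000004000000000000000000000000000000000000000000000002000000060000000000000000000000000000000000000000000000000000000100000000000000000000000000000004000000000000000000000007000000000000000000000000000000000000000000000000)) (TN.leaf (nat_lit 0))) (TN.node (TN.leaf (nat_lit 0)) (TN.leaf (nat_lit 0)))) (TN.node (TN.node (TN.leaf (nat_lit 0)) (TN.leaf (nat_lit 0))) (TN.node (TN.leaf (nat_lit 0)) (TN.leaf (nat_lit 0))))) (TN.node (TN.node (TN.node (TN.leaf (nat_lit 0x5000000000000000000000000000000000000000000000000000000000000000000000000000000000000000500000000000000000000000000000003000000000000000000000000000000000000000000000000000000000000000000000000000000000000000000000000000000000000000600000000000000000000000000000001000000000000000000000000000000000000000000000000000000000000000000000000))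 (TN.leaf (nat_lit 0))) (TN.node (TN.leaf (nat_lit 0)) (TN.leaf (nat_lit 0)))) (TN.node (TN.node (TN.leaf (nat_lit 0)) (TN.leaf (nat_lit 0))) (TN.node (TN.leaf (nat_lit 0)) (TN.leaf (nat_lit 0))))))
def C_t3 : TN := (TN.node C_t1 C_t2)
def C_t4 : TN := (TN.node (TN.node (TN.node (TN.node (TN.leaf (nat_lit 0x4000000000000000000000000000000000000000000000000000000000000000000000000000000000000000400000000000000000000000000000004000000000000000000000000000000000000000000000006000000020000000000000000000000000000000000000000000000000000000000000000000000000000000000000004000000000000000000000001000000000000000000000000000000000000000000000000)) (TN.leaf (nat_lit 0))) (TN.node (TN.leaf (nat_lit 0)) (TN.leaf (nat_lit 0)))) (TN.node (TN.node (TN.leaf (nat_lit 0)) (TN.leaf (nat_lit 0))) (TN.node (TN.leaf (nat_lit 0)) (TN.leaf (nat_lit 0))))) (TN.node (TN.node (TN.node (TN.leaf (nat_lit 0x5000000000000000000000005000000000000000000000000000000000000000000000000000000000000000000000000000000000000000400000000000000000000000000000002000000000000000000000000000000000000000000000000000000050000000000000000000000000000000000000000000000000000000200000000000000000000000000000006000000000000000000000000000000000000000000000000000000000000000000000000))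 (TN.leaf (nat_lit 0))) (TN.node (TN.leaf (nat_lit 0)) (TN.leaf (nat_lit 0)))) (TN.node (TN.node (TN.leaf (nat_lit 0)) (TN.leaf (nat_lit 0))) (TN.node (TN.leaf (nat_lit 0)) (TN.leaf (nat_lit 0))))))
def C_t5 : TN := (TN.node (TN.node (TN.node (TN.node (TN.leaf (nat_lit 0x6000000000000000000000000000000000000000000000000000000000000000000000000000000000000000600000000000000000000000000000002000000000000000000000000000000000000000000000007000000010000000000000000000000000000000000000000000000000000000400000000000000000000000000000006000000000000000000000000000000000000000000000000000000000000000000000000)) (TN.leaf (nat_lit 0))) (TN.node (TN.leaf (nat_lit 0)) (TN.leaf (nat_lit 0)))) (TN.node (TN.node (TN.leaf (nat_lit 0)) (TN.leaf (nat_lit 0))) (TN.node (TN.leaf (nat_lit 0)) (TN.leaf (nat_lit 0))))) (TN.node (TN.node (TN.node (TN.leaf (nat_lit 0x7000000000000000000000000000000000000000000000000000000000000000000000000000000000000000000000000000000000000000000000001000000000000000000000000000000000000000000000000000000000000000000000000000000000000000000000000000000000000000500000000000000000000000000000003000000000000000000000000000000000000000000000000000000000000000000000000))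 (TN.leaf (nat_lit 0))) (TN.node (TN.leaf (nat_lit 0)) (TN.leaf (nat_lit 0)))) (TN.node (TN.node (TN.leaf (nat_lit 0)) (TN.leaf (nat_lit 0))) (TN.node (TN.leaf (nat_lit 0)) (TN.leaf (nat_lit 0))))))
def C_t6 : TN := (TN.node C_t4 C_t5)
def C_t : TN := (TN.node C_t3 C_t6)
noncomputable def C (i : ℕ) : ℕ := TN.get C_t i
def e (i : ℕ) : ℕ := Nat.land (Nat.shiftRight (nat_lit 4) (Nat.mul (nat_lit 3) i)) (nat_lit 7)
def U_t : TL := (TL.node (TL.node (TL.node (TL.node (TL.node (TL.node (TL.leaf [nat_lit 1]) (TL.leaf [nat_lit 10])) (TL.node (TL.leaf [nat_lit 3]) (TL.leaf [nat_lit 10]))) (TL.node (TL.node (TL.leaf [nat_lit 10]) (TL.leaf [nat_lit 11])) (TL.node (TL.leaf [nat_lit 2]) (TL.leaf [nat_lit 8])))) (TL.node (TL.node (TL.node (TL.leaf [nat_lit 2]) (TL.leaf [nat_lit 11])) (TL.node (TL.leaf [nat_lit 11]) (TL.leaf [nat_lit 8]))) (TL.node (TL.node (TL.leaf [nat_lit 6]) (TL.leaf [nat_lit 5])) (TL.leaf [nat_lit 11])))) (TL.node (TL.node (TL.node (TL.node (TL.leaf [nat_lit 1]) (TL.leaf [nat_lit 3])) (TL.node (TL.leaf [nat_lit 10]) (TL.leaf [nat_lit 11]))) (TL.node (TL.node (TL.leaf [nat_lit 3]) (TL.leaf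 [nat_lit 10])) (TL.node (TL.leaf [nat_lit 4]) (TL.leaf [nat_lit 8])))) (TL.node (TL.node (TL.node (TL.leaf [nat_lit 8]) (TL.leaf [nat_lit 3])) (TL.node (TL.leaf [nat_lit 1]) (TL.leaf [nat_lit 11]))) (TL.node (TL.node (TL.leaf [nat_lit 1]) (TL.leaf [nat_lit 5])) (TL.leaf [nat_lit 3]))))) (TL.node (TL.node (TL.node (TL.node (TL.node (TL.leaf [nat_lit 1]) (TL.leaf [nat_lit 3])) (TL.node (TL.leaf [nat_lit 5]) (TL.leaf [nat_lit 5]))) (TL.node (TL.node (TL.leaf [nat_lit 11]) (TL.leaf [nat_lit 8])) (TL.node (TL.leaf [nat_lit 3]) (TL.leaf [nat_lit 8])))) (TL.node (TL.node (TL.node (TL.leaf [nat_lit 4]) (TL.leaf [nat_lit 11])) (TL.node (TL.leaf [nat_lit 1]) (TL.leaf [nat_lit 11]))) (TL.node (TL.node (TL.leaf [nat_lit 1]) (TL.leaf [nat_lit 8])) (TL.leaf [nat_lit 11])))) (TL.node (TL.node (TL.node (TL.node (TL.leaf [nat_lit 2]) (TL.leaf [nat_lit 8])) (TL.node (TL.leaf [nat_lit 10]) (TL.leaf [nat_lit 8]))) (TL.node (TL.node (TL.leaf [nat_lit 5]) (TL.leaf [nat_lit 10])) (TL.leaf [nat_lit 6]))) (TL.node (TL.node (TL.node (TL.leaf [nat_lit 10]) (TL.leaf [nat_lit 10])) (TL.node (TL.leaf [nat_lit 2]) (TL.leaf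 [nat_lit 8]))) (TL.node (TL.node (TL.leaf [nat_lit 2]) (TL.leaf [nat_lit 10])) (TL.leaf [nat_lit 5]))))))
noncomputable def U (i : ℕ) : List ℕ := TL.get U_t i
def V1_t : TL := (TL.node (TL.node (TL.node (TL.node (TL.node (TL.node (TL.leaf [nat_lit 2, nat_lit 2]) (TL.leaf [nat_lit 2, nat_lit 7])) (TL.node (TL.leaf [nat_lit 4, nat_lit 4]) (TL.leaf [nat_lit 6, nat_lit 7]))) (TL.node (TL.node (TL.leaf [nat_lit 1, nat_lit 1]) (TL.leaf [nat_lit 3, nat_lit 3])) (TL.node (TL.leaf [nat_lit 6, nat_lit 6]) (TL.leaf [nat_lit 5, nat_lit 5])))) (TL.node (TL.node (TL.node (TL.leaf [nat_lit 7, nat_lit 7]) (TL.leaf [nat_lit 2, nat_lit 7])) (TL.node (TL.leaf [nat_lit 1, nat_lit 1]) (TL.leaf [nat_lit 9, nat_lit 9]))) (TL.node (TL.node (TL.leaf [nat_lit 6, nat_lit 6]) (TL.leaf [nat_lit 6, nat_lit 6])) (TL.leaf [nat_lit 7, nat_lit 7])))) (TL.node (TL.node (TL.node (TL.node (TL.leaf [nat_lit 7, nat_lit 7]) (TL.leaf [nat_lit 3, nat_lit 6])) (TL.node (TL.leaf [nat_lit 7, nat_lit 7]) (TL.leaf [nat_lit 3, nat_lit 4]))) (TL.node (TL.node (TL.leaf [nat_lit 3, nat_lit 3]) (TL.leaf [nat_lit 6, nat_lit 6])) (TL.node (TL.leaf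 [nat_lit 4, nat_lit 5]) (TL.leaf [nat_lit 5, nat_lit 9])))) (TL.node (TL.node (TL.node (TL.leaf [nat_lit 1, nat_lit 1]) (TL.leaf [nat_lit 3, nat_lit 7])) (TL.node (TL.leaf [nat_lit 6, nat_lit 6]) (TL.leaf [nat_lit 5, nat_lit 5]))) (TL.node (TL.node (TL.leaf [nat_lit 1, nat_lit 6]) (TL.leaf [nat_lit 5, nat_lit 6])) (TL.leaf [nat_lit 6, nat_lit 6]))))) (TL.node (TL.node (TL.node (TL.node (TL.node (TL.leaf [nat_lit 4, nat_lit 4]) (TL.leaf [nat_lit 5, nat_lit 5])) (TL.node (TL.leaf [nat_lit 7, nat_lit 7]) (TL.leaf [nat_lit 6, nat_lit 7]))) (TL.node (TL.node (TL.leaf [nat_lit 2, nat_lit 2]) (TL.leaf [nat_lit 4, nat_lit 4])) (TL.node (TL.leaf [nat_lit 7, nat_lit 7]) (TL.leaf [nat_lit 4, nat_lit 5])))) (TL.node (TL.node (TL.node (TL.leaf [nat_lit 7, nat_lit 7]) (TL.leaf [nat_lit 2, nat_lit 4])) (TL.node (TL.leaf [nat_lit 5, nat_lit 5]) (TL.leaf [nat_lit 3, nat_lit 7]))) (TL.node (TL.node (TL.leaf [nat_lit 1, nat_lit 5]) (TL.leaf [nat_lit 3, nat_lit 3])) (TL.leaf [nat_lit 4, nat_lit 4])))) (TL.node (TL.node (TL.node (TL.node (TL.leaf [nat_lit 4, nat_lit 4]) (TL.leaf [nat_lit 2, nat_lit 2])) (TL.node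 (TL.leaf [nat_lit 4, nat_lit 4]) (TL.leaf [nat_lit 2, nat_lit 4]))) (TL.node (TL.node (TL.leaf [nat_lit 5, nat_lit 5]) (TL.leaf [nat_lit 2, nat_lit 6])) (TL.leaf [nat_lit 7, nat_lit 7]))) (TL.node (TL.node (TL.node (TL.leaf [nat_lit 2, nat_lit 2]) (TL.leaf [nat_lit 3, nat_lit 3])) (TL.node (TL.leaf [nat_lit 2, nat_lit 6]) (TL.leaf [nat_lit 2, nat_lit 9]))) (TL.node (TL.node (TL.leaf [nat_lit 2, nat_lit 3]) (TL.leaf [nat_lit 3, nat_lit 7])) (TL.leaf [nat_lit 5, nat_lit 7]))))))
noncomputable def V1 (i : ℕ) : List ℕ := TL.get V1_t i
def V2_t : TL := (TL.node (TL.node (TL.node (TL.node (TL.node (TL.node (TL.leaf []) (TL.leaf [nat_lit 7, nat_lit 2])) (TL.node (TL.leaf []) (TL.leaf [nat_lit 7, nat_lit 6, nat_lit 4, nat_lit 1]))) (TL.node (TL.node (TL.leaf []) (TL.leaf [nat_lit 1])) (TL.node (TL.leaf [nat_lit 4]) (TL.leaf [nat_lit 2])))) (TL.node (TL.node (TL.node (TL.leaf []) (TL.leaf [nat_lit 7, nat_lit 2])) (TL.node (TL.leaf []) (TL.leaf [nat_lit 1]))) (TL.node (TL.node (TL.leaf [nat_lit 4]) (TL.leaf [nat_lit 4])) (TL.leaf [])))) (TL.node (TL.node (TL.node (TL.node (TL.leaf []) (TL.leaf [nat_lit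 6, nat_lit 3, nat_lit 2])) (TL.node (TL.leaf []) (TL.leaf [nat_lit 4, nat_lit 3, nat_lit 1]))) (TL.node (TL.node (TL.leaf [nat_lit 1]) (TL.leaf [nat_lit 4])) (TL.node (TL.leaf [nat_lit 5, nat_lit 4, nat_lit 2]) (TL.leaf [nat_lit 9, nat_lit 5, nat_lit 4, nat_lit 3, nat_lit 1])))) (TL.node (TL.node (TL.node (TL.leaf []) (TL.leaf [nat_lit 7, nat_lit 3, nat_lit 2, nat_lit 1])) (TL.node (TL.leaf [nat_lit 4]) (TL.leaf [nat_lit 2]))) (TL.node (TL.node (TL.leaf [nat_lit 6, nat_lit 1]) (TL.leaf [nat_lit 6, nat_lit 5, nat_lit 4, nat_lit 3])) (TL.leaf [nat_lit 4]))))) (TL.node (TL.node (TL.node (TL.node (TL.node (TL.leaf []) (TL.leaf [nat_lit 2])) (TL.node (TL.leaf []) (TL.leaf [nat_lit 7, nat_lit 6, nat_lit 4, nat_lit 1]))) (TL.node (TL.node (TL.leaf []) (TL.leaf [])) (TL.node (TL.leaf []) (TL.leaf [nat_lit 5, nat_lit 4, nat_lit 2])))) (TL.node (TL.node (TL.node (TL.leaf []) (TL.leaf [nat_lit 4, nat_lit 2])) (TL.node (TL.leaf [nat_lit 2]) (TL.leaf [nat_lit 7, nat_lit 3, nat_lit 2, nat_lit 1]))) (TL.node (TL.node (TL.leaf [nat_lit 5, nat_lit 1]) (TL.leaf [nat_lit 1])) (TL.leaf [])))) (TL.node (TL.node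 (TL.node (TL.node (TL.leaf []) (TL.leaf [])) (TL.node (TL.leaf []) (TL.leaf [nat_lit 4, nat_lit 2]))) (TL.node (TL.node (TL.leaf [nat_lit 2]) (TL.leaf [nat_lit 6, nat_lit 2, nat_lit 1])) (TL.leaf []))) (TL.node (TL.node (TL.node (TL.leaf []) (TL.leaf [nat_lit 1])) (TL.node (TL.leaf [nat_lit 6, nat_lit 2, nat_lit 1]) (TL.leaf [nat_lit 9, nat_lit 2, nat_lit 1]))) (TL.node (TL.node (TL.leaf [nat_lit 3, nat_lit 2]) (TL.leaf [nat_lit 7, nat_lit 3, nat_lit 2, nat_lit 1])) (TL.leaf [nat_lit 7, nat_lit 5, nat_lit 1]))))))
noncomputable def V2 (i : ℕ) : List ℕ := TL.get V2_t i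
def Y_t : TL := (TL.node (TL.node (TL.node (TL.leaf [nat_lit 1]) (TL.leaf [nat_lit 7, nat_lit 6, nat_lit 3, nat_lit 2])) (TL.node (TL.leaf [nat_lit 2, nat_lit 1]) (TL.leaf [nat_lit 5, nat_lit 4, nat_lit 1]))) (TL.node (TL.node (TL.leaf [nat_lit 3, nat_lit 1]) (TL.leaf [nat_lit 4, nat_lit 3, nat_lit 2, nat_lit 1])) (TL.leaf [nat_lit 7, nat_lit 5, nat_lit 1])))
noncomputable def Y (i : ℕ) : List ℕ := TL.get Y_t i
def O_t : TL := (TL.node (TL.node (TL.node (TL.leaf [nat_lit 0]) (TL.leaf [nat_lit 128])) (TL.node (TL.leaf [nat_lit 20]) (TL.leaf [nat_lit 12, nat_lit 418]))) (TL.node (TL.node (TL.leaf [nat_lit 198]) (TL.leaf [nat_lit 12])) (TL.leaf [nat_lit 20, nat_lit 158])))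
noncomputable def O (i : ℕ) : List ℕ := TL.get O_t i
noncomputable def f1 : ℕ → ℕ := rvE Q B (nat_lit 19) Ru
noncomputable def f2 (j : ℕ) : ℕ := rlE I Ru (nat_lit 48) (nat_lit 8) (U j) (V1 j) (V2 j) (D j)
noncomputable def f3 : ℕ → ℕ := tgR I Ru (nat_lit 48) (nat_lit 2) (nat_lit 8) C D (nat_lit 60) La
noncomputable def f4 : ℕ → ℕ := chE Q B (nat_lit 540) (nat_lit 19) (nat_lit 7) (nat_lit 12) Y O
theorem ra0 : Nat.beq (rng f1 (nat_lit 0) (nat_lit 48)) (nat_lit 0) = true := by decide +kernel
theorem rb0 : Nat.beq (rng f2 (nat_lit 0) (nat_lit 59)) (nat_lit 0) = true := by decide +kernel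
theorem rc0 : Nat.beq (rng f3 (nat_lit 0) (nat_lit 7)) (nat_lit 0) = true := by decide +kernel
theorem rd0 : Nat.beq (rng f4 (nat_lit 0) (nat_lit 7)) (nat_lit 0) = true := by decide +kernel
theorem h1 : ∀ i < 48, f1 i = 0 := by
  have h := zero_lt_zero f1
  have h := zero_lt_add (a := (nat_lit 0)) (n := (nat_lit 48)) (b := (nat_lit 48)) h ra0 rfl
  exact h
theorem h2 : ∀ i < 59, f2 i = 0 := by
  have h := zero_lt_zero f2
  have h := zero_lt_add (a := (nat_lit 0)) (n := (nat_lit 59)) (b := (nat_lit 59)) h rb0 rfl
  exact h
theorem h3 : ∀ i < 7, f3 i = 0 := by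
  have h := zero_lt_zero f3
  have h := zero_lt_add (a := (nat_lit 0)) (n := (nat_lit 7)) (b := (nat_lit 7)) h rc0 rfl
  exact h
theorem h4 : ∀ i < 7, f4 i = 0 := by
  have h := zero_lt_zero f4
  have h := zero_lt_add (a := (nat_lit 0)) (n := (nat_lit 7)) (b := (nat_lit 7)) h rd0 rfl
  exact h
theorem nok : NoK (U43.P) (2 ^ (2 + 1)) := fun _ _ _ _ h =>
  (md.rv (I := I) (K := 48) rfl ⟨rfl, by decide⟩ (upTo_beq (by decide +kernel)) h1).core h (by norm_num)
    (md.syl (by norm_num) rfl (by decide) h4) (by rw [U43.card]; decide) (n := 8) (s := 1) (e := e) (L := Le) (C := C)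
    ⟨rfl, by decide, rfl, by decide, by decide, rfl, by decide⟩ h2 (upTo_beq (by decide +kernel)) (upTo_beq (by decide +kernel)) h3

end Cfsg.Agent.Ct.U43s.S2
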