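import Cfsg.Agent.Lib.Cert.U43.M
import Cfsg.Agent.Lib.Cert.Sch2

set_option autoImplicit false
set_option maxRecDepth 100000

namespace Cfsg.Agent.Ct.U43s.S3

open Cfsg.Agent.PC

open Cfsg.Agent.Fi Cfsg.Agent.Ct
def W_t : TL := (TL.node (TL.node (TL.node (TL.node (TL.leaf []) (TL.leaf [nat_lit 4, nat_lit 5, nat_lit 3, nat_lit 5, nat_lit 6, nat_lit 0, nat_lit 3, nat_lit 6, nat_lit 4, nat_lit 6, nat_lit 0, nat_lit 5, nat_lit 4, nat_lit 5, nat_lit 0])) (TL.node (TL.leaf [nat_lit 3, nat_lit 5, nat_lit 2, nat_lit 4, nat_lit 5, nat_lit 0, nat_lit 3, nat_lit 3, nat_lit 5, nat_lit 6, nat_lit 2, nat_lit 3, nat_lit 2, nat_lit 6, nat_lit 2, nat_lit 4, nat_lit 2, nat_lit 5, nat_lit 6]) (TL.leaf [nat_lit 2, nat_lit 3, nat_lit 6, nat_lit 2, nat_lit 6, nat_lit 5, nat_lit 1, nat_lit 4, nat_lit 5, nat_lit 4, nat_lit 5, nat_lit 4, nat_lit 6]))) (TL.node (TL.node (TL.leaf [nat_lit 2, nat_lit 6, nat_lit 4, nat_lit 6, nat_lit 1, nat_lit 0, nat_lit 6, nat_lit 3, nat_lit 2, nat_lit 5, nat_lit 3, nat_lit 5, nat_lit 0]) (TL.leaf [nat_lit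 0, nat_lit 5, nat_lit 4, nat_lit 5, nat_lit 0, nat_lit 3, nat_lit 1, nat_lit 6, nat_lit 3, nat_lit 5, nat_lit 0, nat_lit 5, nat_lit 1, nat_lit 3, nat_lit 5, nat_lit 0, nat_lit 3, nat_lit 6])) (TL.node (TL.leaf [nat_lit 3, nat_lit 5, nat_lit 2, nat_lit 4, nat_lit 1, nat_lit 5, nat_lit 4, nat_lit 1, nat_lit 6, nat_lit 5, nat_lit 4, nat_lit 5, nat_lit 0, nat_lit 6, nat_lit 4, nat_lit 6, nat_lit 4, nat_lit 5]) (TL.leaf [nat_lit 4, nat_lit 5, nat_lit 3, nat_lit 5, nat_lit 1, nat_lit 6, nat_lit 2, nat_lit 5, nat_lit 4, nat_lit 5, nat_lit 0, nat_lit 5, nat_lit 3, nat_lit 1, nat_lit 6, nat_lit 2, nat_lit 2, nat_lit 0, nat_lit 5])))) (TL.node (TL.node (TL.node (TL.leaf [nat_lit 0, nat_lit 2, nat_lit 6, nat_lit 5, nat_lit 3, nat_lit 6, nat_lit 2, nat_lit 4, nat_lit 5, nat_lit 6]) (TL.leaf [nat_lit 6, nat_lit 5, nat_lit 0, nat_lit 6, nat_lit 0, nat_lit 4, nat_lit 2, nat_lit 6, nat_lit 0, nat_lit 5, nat_lit 6])) (TL.node (TL.leaf [nat_lit 0, nat_lit 5, nat_lit 4, nat_lit 5, nat_lit 0, nat_lit 1, nat_lit 6, nat_lit 5, nat_lit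 4, nat_lit 1, nat_lit 6, nat_lit 3, nat_lit 6, nat_lit 1, nat_lit 0, nat_lit 5, nat_lit 6, nat_lit 2]) (TL.leaf [nat_lit 0, nat_lit 5, nat_lit 4, nat_lit 2, nat_lit 0, nat_lit 5, nat_lit 6, nat_lit 2, nat_lit 3, nat_lit 1, nat_lit 6, nat_lit 0, nat_lit 1, nat_lit 5]))) (TL.node (TL.node (TL.leaf [nat_lit 3, nat_lit 5, nat_lit 3, nat_lit 5, nat_lit 4, nat_lit 1, nat_lit 3, nat_lit 1, nat_lit 5, nat_lit 6, nat_lit 1, nat_lit 0, nat_lit 5, nat_lit 3, nat_lit 6, nat_lit 1, nat_lit 1, nat_lit 6]) (TL.leaf [nat_lit 2, nat_lit 6, nat_lit 3, nat_lit 6, nat_lit 0, nat_lit 5, nat_lit 3, nat_lit 2, nat_lit 5, nat_lit 3, nat_lit 1, nat_lit 6, nat_lit 4])) (TL.leaf [nat_lit 1, nat_lit 3, nat_lit 5, nat_lit 6, nat_lit 3, nat_lit 5, nat_lit 6, nat_lit 2, nat_lit 3, nat_lit 5, nat_lit 4, nat_lit 6, nat_lit 0, nat_lit 3, nat_lit 2]))))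
noncomputable def W (i : ℕ) : List ℕ := TL.get W_t i
def B : List ℕ := [nat_lit 2, nat_lit 0, nat_lit 1]
noncomputable def q (j : ℕ) : U43.P := ev U43.al (W j)
noncomputable def Q (j : ℕ) : ℕ → ℕ := trF U43.T (W j)
theorem md : Md U43.pt 540 B q Q 15 := (U43.md0).words' (by decide +kernel)
def I (i : ℕ) : ℕ := Nat.land (Nat.shiftRight (nat_lit 0x1c0001d0781f08000000000000000000000000000000000000000000000000000000000000000000000000000000000000000000000000000000000000000000000000000000000000000000000000001605c180641a06c000000000000000000000000000000000000000000000000000000000000000000000000000000000000000000000000000000000000000000000000000000000000000000000000015000000000000000000000000000000000000000000000000000000000000000000000000000000000000000000000000000000000000000000000000000000000000000000000000000000000000001403c00000000000000000000000000000000000000000000000000000000000000000000000000000000000000000000000000000000000000000000000000000000000000000000000000000000000130380a0000000000000000000000000000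00000000000000000000000000000000000000000000000000000000000000000000000000000000000000000000000000000000000000000000000000000120340901800000000000000000000000000000000000000000000000000000000000000000000000000000000000000000000000000000000000000000000000000000000000000000000000000000011030080140300000000000000000000000000000000000000000000000000000000000000000000000000000000000000000000000000000000000000000000000000000000000000000000000000001002c0701002004000000000000000000000000000000000000000000000000000000000000000000000000000000000000000000000000000000000000000000000000000000000000000000000000000000000000000000) (Nat.mul (nat_lit 10) i)) (nat_lit 1023)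
def Ru_t1 : TN := (TN.node (TN.node (TN.node (TN.node (TN.leaf (nat_lit 0)) (TN.leaf (nat_lit 0x201000000000201082))) (TN.leaf (nat_lit 0x46000000000046082))) (TN.node (TN.leaf (nat_lit 0x84000000000084082)) (TN.leaf (nat_lit 0x1c21040000000001c4102)))) (TN.node (TN.node (TN.leaf (nat_lit 0x43000000000043082)) (TN.leaf (nat_lit 0x41084146000000000146182))) (TN.node (TN.leaf (nat_lit 0x85000000000085082)) (TN.leaf (nat_lit 0x2010820c6000000000206182)))))
def Ru_t2 : TN := (TN.node (TN.node (TN.node (TN.leaf (nat_lit 0x42000000000042082)) (TN.leaf (nat_lit 0x410c60000000000c6102))) (TN.node (TN.leaf (nat_lit 0x4104003)) (TN.leaf (nat_lit 0x70840000000001c20c2)))) (TN.node (TN.node (TN.leaf (nat_lit 0x30c3003)) (TN.leaf (nat_lit 0x70430c40000000001c6142))) (TN.node (TN.leaf (nat_lit 0x11050000000001050c2)) (TN.leaf (nat_lit 0x2020c3104186000000000203202)))))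
def Ru_t3 : TN := (TN.node Ru_t1 Ru_t2)
def Ru_t4 : TN := (TN.node (TN.node (TN.node (TN.node (TN.leaf (nat_lit 0x1041003)) (TN.leaf (nat_lit 0x86000000000086082))) (TN.node (TN.leaf (nat_lit 0x10c40000000000c40c2)) (TN.leaf (nat_lit 0x70841060000000001c3142)))) (TN.node (TN.node (TN.leaf (nat_lit 0x10830000000000830c2)) (TN.leaf (nat_lit 0x6186003))) (TN.node (TN.leaf (nat_lit 0x20c50000000000c50c2)) (TN.leaf (nat_lit 0x203106000000000204102))))) (TN.node (TN.node (TN.node (TN.leaf (nat_lit 0x2082003)) (TN.leaf (nat_lit 0x41106000000000106102))) (TN.node (TN.leaf (nat_lit 0x45000000000045082)) (TN.leaf (nat_lit 0x70410000000001c10c2)))) (TN.node (TN.node (TN.leaf (nat_lit 0x44000000000044082)) (TN.leaf (nat_lit 0x1c10431041451860000000001c5282))) (TN.node (TN.leaf (nat_lit 0x41000000005145083)) (TN.leaf (nat_lit 0x2010420c3104000000000202202))))))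
def Ru_t : TN := (TN.node Ru_t3 Ru_t4)
noncomputable def Ru (i : ℕ) : ℕ := TN.get Ru_t i
def D_t1 : TN := (TN.node (TN.node (TN.node (TN.node (TN.leaf (nat_lit 0x30000000000000001)) (TN.leaf (nat_lit 0x190000000000000000000000000000000000000000000000000000000000000000000000000000000000000000000000000000000000000000000000190000001a0000000000000000000000000000000000000000000000000000001a000000190000000000000000000000190000000200000000000000160000001a00000021))) (TN.leaf (nat_lit 0x300000000000000000000000300000000000000000000000000000000000000000000000000000000000000000000000000000000000000000000000000000000000000000000000200000011))) (TN.node (TN.node (TN.leaf (nat_lit 0x180000000000000000000000000000000000000000000000000000000000000000000000000000000000000009)) (TN.leaf (nat_lit 0x10000000000000000000000000000001a0000000000000000000000000000000000000000))) (TN.leaf (nat_lit 0x30000001a000000000000000000000000000000000000000000000000000000000000000000000000000000000000000100000003000000000000000200000002000000000000000500000000000000000000000200000019))))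 (TN.node (TN.node (TN.node (TN.leaf (nat_lit 0x30000000000000000000000000000000000000000000000000000000000000005)) (TN.leaf (nat_lit 0x190000001a000000000000001a0000000000000000000000000000001a00000019000000170000000000000019000000000000001900000017000000190000001a0000001a00000018000000150000001a00000000000000180000000f000000190000000d0000001300000025))) (TN.leaf (nat_lit 0x3000000000000000000000000000000000000000000000000000000000000000000000000000000000000000000000000000000000000000100000000000000060000000000000000000000000000000000000001000000000000000000000015))) (TN.node (TN.leaf (nat_lit 0x300000000000000030000000000000000000000000000000000000000000000010000000d)) (TN.leaf (nat_lit 0x30000000000000000000000000000000100000000000000030000000000000003000000010000000000000000000000000000000000000000000000020000000000000006000000040000001a00000000000000000000000100000006000000020000001d)))))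
def D_t2 : TN := (TN.node (TN.node (TN.node (TN.node (TN.leaf (nat_lit 0x300000000000000000000000000000000000000000000000000000003)) (TN.leaf (nat_lit 0x3000000000000000000000000000000000000000000000000000000000000000000000000000000000000000000000000000000000000000000000000000000000000000000000000000000000000000000000002000000060000000600000006000000020000000600000005000000000000000d0000000600000023))) (TN.leaf (nat_lit 0x100000000000000000000000000000000000000000000000000000000000000000000000000000000000000000000000100000000000000000000000000000013))) (TN.node (TN.leaf (nat_lit 0x2000000000000000000000000000000000000000000000000000000000000000000000000000000000000000b)) (TN.leaf (nat_lit 0x1a0000000000000000000000000000000000000000000000000000000000000001000000000000000100000000000000000000000000000000000000000000000000000000000000000000000100000004000000000000001a000000000000000000000004000000000000001b)))) (TN.node (TN.node (TN.node (TN.leaf (nat_lit 0x30000000000000000000000000000000000000000000000000000000000000000000000000000000000000000000000000000000000000000000000000000000000000000000000000000000000000000000000000000000000000000000000000000000000000000000000000000000000000000000000000000000000000007))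 (TN.leaf (nat_lit 0x3000000000000000000000000000000000000000000000000000000000000000000000002000000000000000600000006000000060000000500000000000000000000000000000000000000000000000200000006000000060000000600000001000000060000000d00000001000000130000000c00000027))) (TN.leaf (nat_lit 0x1800000000000000000000000000000000000000000000000000000000000000180000001a0000001a000000190000001a00000017))) (TN.node (TN.leaf (nat_lit 0x300000000000000000000000000000000000000000000000000000000000000000000000000000002000000000000000f)) (TN.leaf (nat_lit 0x3000000000000000000000000000000000000000000000000000000000000000000000000000000030000000300000001000000000000000000000000000000000000000000000000000000000000000000000000000000010000000300000003000000020000000e000000040000001f)))))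
def D_t3 : TN := (TN.node D_t1 D_t2)
def D_t4 : TN := (TN.node (TN.node (TN.node (TN.node (TN.leaf (nat_lit 0x300000000000000000000000000000002)) (TN.leaf (nat_lit 0x200000002000000010000000200000000000000000000000000000000000000000000000000000000000000000000000200000000000000010000001900000000000000020000000300000022))) (TN.leaf (nat_lit 0x180000000000000000000000000000000000000000000000000000001800000000000000000000000000000000000000000000001a00000012))) (TN.node (TN.node (TN.leaf (nat_lit 0x1800000000000000000000000000000000000000000000000000000000000000000000000000000000000000000000000a)) (TN.leaf (nat_lit 0x100000000000000000000000000000000000000000000000000000000000000000000001a0000000000000000000000000000000000000000))) (TN.leaf (nat_lit 0x1a0000000000000000000000000000000000000000000000000000000000000019000000010000001a0000000000000002000000000000000000000000000000000000001a)))) (TN.node (TN.node (TN.node (TN.leaf (nat_lit 0x30000000000000000000000000000000000000000000000000000000000000000000000000000000000000000000000000000000000000000000000000000000000000006))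 (TN.leaf (nat_lit 0x1a000000000000000000000000000000000000000000000019000000020000001a000000020000001a00000000000000030000001a00000001000000010000001a000000180000001400000000000000000000001a000000000000001a000000190000001a00000026))) (TN.leaf (nat_lit 0x100000000000000020000000000000016))) (TN.node (TN.leaf (nat_lit 0x3000000000000000000000000000000000000000000000000000000000000000000000000000000000000000000000000000000000000000000000000000000010000000000000003000000000000000000000000000000000000000000000000000000000000000e)) (TN.leaf (nat_lit 0x3000000000000000000000000000000000000000000000000000000000000000100000000000000030000000300000000000000020000000000000000000000000000000000000000000000000000000300000000000000040000000100000000000000060000000000000000000000050000001e)))))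
def D_t5 : TN := (TN.node (TN.node (TN.node (TN.node (TN.leaf (nat_lit 0x300000000000000000000000000000000000000000000000000000000000000000000000000000000000000000000000000000000000000000000000000000004)) (TN.leaf (nat_lit 0x1a000000000000000000000000000000000000000000000000000000000000000400000000000000020000000100000000000000030000000000000002000000030000000000000019000000020000000400000000000000010000000000000000000000050000000300000024))) (TN.leaf (nat_lit 0x100000000000000000000000000000000000000010000000000000014))) (TN.node (TN.leaf (nat_lit 0x3000000030000000000000000000000010000000c)) (TN.leaf (nat_lit 0x3000000030000000000000003000000020000000000000000000000000000000000000000000000010000000000000003000000050000000000000000000000000000000100000001000000040000001c)))) (TN.node (TN.node (TN.node (TN.leaf (nat_lit 0x3000000000000000000000000000000000000000000000000000000000000000000000000000000000000000000000000000000000000000000000000000000000000000000000000000000000000000000000000000000000000000000000000000000000000000100000008))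 (TN.leaf (nat_lit 0x190000000000000000000000000000000300000000000000020000000600000005000000060000000300000006000000010000000400000006000000080000000800000004000000060000000a0000000e000000010000000a0000000d00000004000000170000001400000028))) (TN.leaf (nat_lit 0x100000000000000000000001a0000000000000000000000000000000100000000000000000000000000000018))) (TN.node (TN.leaf (nat_lit 0x3000000000000000300000000000000000000000000000000000000000000000000000000000000000000000000000000000000000000000000000000000000000000000200000010)) (TN.leaf (nat_lit 0x20000000000000002000000020000000000000002000000000000000100000003000000000000001a000000020000001900000000000000010000000000000000000000060000000200000020)))))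
def D_t6 : TN := (TN.node D_t4 D_t5)
def D_t : TN := (TN.node D_t3 D_t6)
noncomputable def D (i : ℕ) : ℕ := TN.get D_t i
def La_t1 : TN := (TN.node (TN.node (TN.node (TN.node (TN.leaf (nat_lit 0xf0c00000000060000001800000000090f00030018000300000000120000001503000e00000000000000)) (TN.leaf (nat_lit 0xd00000000000000000000))) (TN.leaf (nat_lit 0x1a000000000000010000000001000000000000000000))) (TN.node (TN.node (TN.leaf (nat_lit 0x1500000000150000000900000000060c0018000f00030f0000000d000000180c000000000000000000)) (TN.leaf (nat_lit 0x100001a0000001a000000001a000000000000000000))) (TN.leaf (nat_lit 0x600000000060000001200000000150f0003000c00170c0000000e000000030f000000000000000000)))) (TN.node (TN.node (TN.node (TN.leaf (nat_lit 0)) (TN.leaf (nat_lit 0))) (TN.leaf (nat_lit 0))) (TN.node (TN.node (TN.leaf (nat_lit 0)) (TN.leaf (nat_lit 0))) (TN.leaf (nat_lit 0)))))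
def La_t2 : TN := (TN.node (TN.node (TN.node (TN.node (TN.leaf (nat_lit 0)) (TN.leaf (nat_lit 0))) (TN.leaf (nat_lit 0))) (TN.node (TN.node (TN.leaf (nat_lit 0)) (TN.leaf (nat_lit 0))) (TN.leaf (nat_lit 0)))) (TN.node (TN.node (TN.node (TN.leaf (nat_lit 0)) (TN.leaf (nat_lit 0))) (TN.leaf (nat_lit 0))) (TN.node (TN.node (TN.leaf (nat_lit 0)) (TN.leaf (nat_lit 0))) (TN.leaf (nat_lit 0)))))
def La_t3 : TN := (TN.node La_t1 La_t2)
def La_t4 : TN := (TN.node (TN.node (TN.node (TN.node (TN.leaf (nat_lit 0)) (TN.leaf (nat_lit 0x13081a000f18160012000f00001700190c150b001411130c001800090d00000f18001600050e03000000))) (TN.leaf (nat_lit 0))) (TN.node (TN.node (TN.leaf (nat_lit 0)) (TN.leaf (nat_lit 0))) (TN.leaf (nat_lit 0)))) (TN.node (TN.node (TN.node (TN.leaf (nat_lit 0)) (TN.leaf (nat_lit 0))) (TN.leaf (nat_lit 0))) (TN.node (TN.node (TN.leaf (nat_lit 0)) (TN.leaf (nat_lit 0))) (TN.leaf (nat_lit 0)))))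
def La_t5 : TN := (TN.node (TN.node (TN.node (TN.node (TN.leaf (nat_lit 0)) (TN.leaf (nat_lit 0))) (TN.leaf (nat_lit 0))) (TN.node (TN.node (TN.leaf (nat_lit 0)) (TN.leaf (nat_lit 0))) (TN.leaf (nat_lit 0)))) (TN.node (TN.node (TN.node (TN.leaf (nat_lit 0)) (TN.leaf (nat_lit 0))) (TN.leaf (nat_lit 0))) (TN.node (TN.node (TN.leaf (nat_lit 0)) (TN.leaf (nat_lit 0))) (TN.leaf (nat_lit 0)))))
def La_t6 : TN := (TN.node La_t4 La_t5)
def La_t7 : TN := (TN.node La_t3 La_t6)
def La_t8 : TN := (TN.node (TN.node (TN.node (TN.node (TN.leaf (nat_lit 0)) (TN.leaf (nat_lit 0))) (TN.leaf (nat_lit 0x60c00000c150900150000000014001812140c000a070f0a000f00111400000c0d00070002070c000000))) (TN.node (TN.node (TN.leaf (nat_lit 0)) (TN.leaf (nat_lit 0x502000000001a000d001a00000000071000130003001204000000070000000718001400000000000000))) (TN.leaf (nat_lit 0x1a00000000000000000000000000000000000000000000000000000000000000000000000000000000)))) (TN.node (TN.node (TN.node (TN.leaf (nat_lit 0)) (TN.leaf (nat_lit 0))) (TN.leaf (nat_lit 0)))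 (TN.node (TN.node (TN.leaf (nat_lit 0)) (TN.leaf (nat_lit 0))) (TN.leaf (nat_lit 0)))))
def La_t9 : TN := (TN.node (TN.node (TN.node (TN.node (TN.leaf (nat_lit 0)) (TN.leaf (nat_lit 0))) (TN.leaf (nat_lit 0))) (TN.node (TN.node (TN.leaf (nat_lit 0)) (TN.leaf (nat_lit 0))) (TN.leaf (nat_lit 0)))) (TN.node (TN.node (TN.node (TN.leaf (nat_lit 0)) (TN.leaf (nat_lit 0))) (TN.leaf (nat_lit 0))) (TN.node (TN.node (TN.leaf (nat_lit 0)) (TN.leaf (nat_lit 0))) (TN.leaf (nat_lit 0)))))
def La_t10 : TN := (TN.node La_t8 La_t9)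
def La_t11 : TN := (TN.node (TN.node (TN.node (TN.node (TN.leaf (nat_lit 0)) (TN.leaf (nat_lit 0))) (TN.leaf (nat_lit 0))) (TN.node (TN.node (TN.leaf (nat_lit 0)) (TN.leaf (nat_lit 0))) (TN.leaf (nat_lit 0)))) (TN.node (TN.node (TN.node (TN.leaf (nat_lit 0)) (TN.leaf (nat_lit 0))) (TN.leaf (nat_lit 0))) (TN.node (TN.node (TN.leaf (nat_lit 0)) (TN.leaf (nat_lit 0))) (TN.leaf (nat_lit 0)))))
def La_t12 : TN := (TN.node (TN.node (TN.node (TN.node (TN.leaf (nat_lit 0)) (TN.leaf (nat_lit 0))) (TN.leaf (nat_lit 0))) (TN.node (TN.node (TN.leaf (nat_lit 0)) (TN.leaf (nat_lit 0))) (TN.leaf (nat_lit 0)))) (TN.node (TN.node (TN.node (TN.leaf (nat_lit 0)) (TN.leaf (nat_lit 0))) (TN.leaf (nat_lit 0))) (TN.node (TN.node (TN.leaf (nat_lit 0)) (TN.leaf (nat_lit 0))) (TN.leaf (nat_lit 0)))))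
def La_t13 : TN := (TN.node La_t11 La_t12)
def La_t14 : TN := (TN.node La_t10 La_t13)
def La_t15 : TN := (TN.node La_t7 La_t14)
def La_t16 : TN := (TN.node (TN.node (TN.node (TN.node (TN.leaf (nat_lit 0)) (TN.leaf (nat_lit 0xd000000000400000015000000001713000b0008000708000000120000000b13000000000000000000))) (TN.leaf (nat_lit 0))) (TN.node (TN.node (TN.leaf (nat_lit 0x151800000f180c000f0000000000001509000f000c08061500000000040000060f001200001700000000)) (TN.leaf (nat_lit 0x1700000000150000000900000000060d0019000e00040f0000000e0000000a0d000000000000000000))) (TN.leaf (nat_lit 0x1001a000000000000010000000d01000000000000000000)))) (TN.node (TN.node (TN.node (TN.leaf (nat_lit 0)) (TN.leaf (nat_lit 0))) (TN.leaf (nat_lit 0))) (TN.node (TN.node (TN.leaf (nat_lit 0)) (TN.leaf (nat_lit 0))) (TN.leaf (nat_lit 0)))))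
def La_t17 : TN := (TN.node (TN.node (TN.node (TN.node (TN.leaf (nat_lit 0)) (TN.leaf (nat_lit 0))) (TN.leaf (nat_lit 0))) (TN.node (TN.node (TN.leaf (nat_lit 0)) (TN.leaf (nat_lit 0))) (TN.leaf (nat_lit 0)))) (TN.node (TN.node (TN.node (TN.leaf (nat_lit 0)) (TN.leaf (nat_lit 0))) (TN.leaf (nat_lit 0))) (TN.node (TN.node (TN.leaf (nat_lit 0)) (TN.leaf (nat_lit 0))) (TN.leaf (nat_lit 0)))))
def La_t18 : TN := (TN.node La_t16 La_t17)
def La_t19 : TN := (TN.node (TN.node (TN.node (TN.node (TN.leaf (nat_lit 0)) (TN.leaf (nat_lit 0))) (TN.leaf (nat_lit 0))) (TN.node (TN.node (TN.leaf (nat_lit 0)) (TN.leaf (nat_lit 0x1815000015181500120003000010000c001115000c1a0711000c0016180000090100000007030f000000))) (TN.leaf (nat_lit 0)))) (TN.node (TN.node (TN.node (TN.leaf (nat_lit 0)) (TN.leaf (nat_lit 0))) (TN.leaf (nat_lit 0))) (TN.node (TN.node (TN.leaf (nat_lit 0)) (TN.leaf (nat_lit 0))) (TN.leaf (nat_lit 0)))))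
def La_t20 : TN := (TN.node (TN.node (TN.node (TN.node (TN.leaf (nat_lit 0)) (TN.leaf (nat_lit 0))) (TN.leaf (nat_lit 0))) (TN.node (TN.node (TN.leaf (nat_lit 0)) (TN.leaf (nat_lit 0))) (TN.leaf (nat_lit 0)))) (TN.node (TN.node (TN.node (TN.leaf (nat_lit 0)) (TN.leaf (nat_lit 0))) (TN.leaf (nat_lit 0))) (TN.node (TN.node (TN.leaf (nat_lit 0)) (TN.leaf (nat_lit 0))) (TN.leaf (nat_lit 0)))))
def La_t21 : TN := (TN.node La_t19 La_t20)
def La_t22 : TN := (TN.node La_t18 La_t21)
def La_t23 : TN := (TN.node (TN.node (TN.node (TN.node (TN.leaf (nat_lit 0)) (TN.leaf (nat_lit 0x1a0000000000000000000000000000000000000000000000000000000000000000000000000000000000))) (TN.leaf (nat_lit 0))) (TN.node (TN.node (TN.leaf (nat_lit 0)) (TN.leaf (nat_lit 0xd09000000001600000001000000001109001200060011030000000f0000001815000d00000000000000))) (TN.leaf (nat_lit 0x61206000c000000000000030c001500120f180c0000000f0800000009000f00001300000000)))) (TN.node (TN.node (TN.node (TN.leaf (nat_lit 0)) (TN.leaf (nat_lit 0))) (TN.leaf (nat_lit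 0))) (TN.node (TN.node (TN.leaf (nat_lit 0)) (TN.leaf (nat_lit 0))) (TN.leaf (nat_lit 0)))))
def La_t24 : TN := (TN.node (TN.node (TN.node (TN.node (TN.leaf (nat_lit 0)) (TN.leaf (nat_lit 0))) (TN.leaf (nat_lit 0))) (TN.node (TN.node (TN.leaf (nat_lit 0)) (TN.leaf (nat_lit 0))) (TN.leaf (nat_lit 0)))) (TN.node (TN.node (TN.node (TN.leaf (nat_lit 0)) (TN.leaf (nat_lit 0))) (TN.leaf (nat_lit 0))) (TN.node (TN.node (TN.leaf (nat_lit 0)) (TN.leaf (nat_lit 0))) (TN.leaf (nat_lit 0)))))
def La_t25 : TN := (TN.node La_t23 La_t24)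
def La_t26 : TN := (TN.node (TN.node (TN.node (TN.node (TN.leaf (nat_lit 0)) (TN.leaf (nat_lit 0))) (TN.leaf (nat_lit 0))) (TN.node (TN.node (TN.leaf (nat_lit 0)) (TN.leaf (nat_lit 0))) (TN.leaf (nat_lit 0)))) (TN.node (TN.node (TN.node (TN.leaf (nat_lit 0)) (TN.leaf (nat_lit 0))) (TN.leaf (nat_lit 0))) (TN.node (TN.node (TN.leaf (nat_lit 0)) (TN.leaf (nat_lit 0))) (TN.leaf (nat_lit 0)))))
def La_t27 : TN := (TN.node (TN.node (TN.node (TN.node (TN.leaf (nat_lit 0)) (TN.leaf (nat_lit 0))) (TN.leaf (nat_lit 0))) (TN.node (TN.node (TN.leaf (nat_lit 0)) (TN.leaf (nat_lit 0))) (TN.leaf (nat_lit 0)))) (TN.node (TN.node (TN.node (TN.leaf (nat_lit 0)) (TN.leaf (nat_lit 0))) (TN.leaf (nat_lit 0))) (TN.node (TN.node (TN.leaf (nat_lit 0)) (TN.leaf (nat_lit 0))) (TN.leaf (nat_lit 0)))))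
def La_t28 : TN := (TN.node La_t26 La_t27)
def La_t29 : TN := (TN.node La_t25 La_t28)
def La_t30 : TN := (TN.node La_t22 La_t29)
def La_t : TN := (TN.node La_t15 La_t30)
noncomputable def La (i : ℕ) : ℕ := TN.get La_t i
def Le_t : TN := (TN.node (TN.leaf (nat_lit 0xf03150000000300000014090600060016010b08000200001800000900001500070319000000)) (TN.leaf (nat_lit 0x306090000000000000016151200180005140a10001800001500000303001700050603000000)))
noncomputable def Le (i : ℕ) : ℕ := TN.get Le_t i
def C_t1 : TN := (TN.node (TN.node (TN.node (TN.node (TN.leaf (nat_lit 0)) (TN.leaf (nat_lit 0))) (TN.node (TN.leaf (nat_lit 0)) (TN.leaf (nat_lit 0)))) (TN.node (TN.node (TN.leaf (nat_lit 0)) (TN.leaf (nat_lit 0))) (TN.node (TN.leaf (nat_lit 0)) (TN.leaf (nat_lit 0))))) (TN.node (TN.node (TN.node (TN.leaf (nat_lit 0x10000000000000000000000000000000000000000000000000000001a00000000000000000000000000000000000000000000000000000000000000190000000000000000000000000000000000000000)) (TN.leaf (nat_lit 0))) (TN.node (TN.leaf (nat_lit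 0)) (TN.leaf (nat_lit 0)))) (TN.node (TN.node (TN.leaf (nat_lit 0)) (TN.leaf (nat_lit 0))) (TN.node (TN.leaf (nat_lit 0)) (TN.leaf (nat_lit 0))))))
def C_t2 : TN := (TN.node (TN.node (TN.node (TN.node (TN.leaf (nat_lit 0x100000000000000000000000000000000000000000000000000000000000000000000000000000000000000000000000000000000)) (TN.leaf (nat_lit 0))) (TN.node (TN.leaf (nat_lit 0)) (TN.leaf (nat_lit 0)))) (TN.node (TN.node (TN.leaf (nat_lit 0)) (TN.leaf (nat_lit 0))) (TN.node (TN.leaf (nat_lit 0)) (TN.leaf (nat_lit 0))))) (TN.node (TN.node (TN.node (TN.leaf (nat_lit 0x14000000000000000000000001000000000000000d000000000000000000000000000000000000000000000000000000030000000000000000000000000000000000000000000000000000000c000000000000000000000000000000000000000000000000)) (TN.leaf (nat_lit 0))) (TN.node (TN.leaf (nat_lit 0)) (TN.leaf (nat_lit 0)))) (TN.node (TN.node (TN.leaf (nat_lit 0)) (TN.leaf (nat_lit 0))) (TN.node (TN.leaf (nat_lit 0)) (TN.leaf (nat_lit 0))))))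
def C_t3 : TN := (TN.node C_t1 C_t2)
def C_t4 : TN := (TN.node (TN.node (TN.node (TN.node (TN.leaf (nat_lit 0x10000000000000000000000000000000000000000)) (TN.leaf (nat_lit 0))) (TN.node (TN.leaf (nat_lit 0)) (TN.leaf (nat_lit 0)))) (TN.node (TN.node (TN.leaf (nat_lit 0)) (TN.leaf (nat_lit 0))) (TN.node (TN.leaf (nat_lit 0)) (TN.leaf (nat_lit 0))))) (TN.node (TN.node (TN.node (TN.leaf (nat_lit 0xd000000000000001300000018000000000000000b00000000000000000000000000000000000000000000000000000015000000000000000000000000000000000000000000000000000000030000000f0000000000000000000000000000000000000000)) (TN.leaf (nat_lit 0))) (TN.node (TN.leaf (nat_lit 0)) (TN.leaf (nat_lit 0)))) (TN.node (TN.node (TN.leaf (nat_lit 0)) (TN.leaf (nat_lit 0))) (TN.node (TN.leaf (nat_lit 0)) (TN.leaf (nat_lit 0))))))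
def C_t5 : TN := (TN.node (TN.node (TN.node (TN.node (TN.leaf (nat_lit 0x100000000000000000000000070000000000000006000000000000000000000000000000000000000000000000000000050000000000000000000000000000000000000000000000000000000b000000080000000000000000000000000000000000000000)) (TN.leaf (nat_lit 0))) (TN.node (TN.leaf (nat_lit 0)) (TN.leaf (nat_lit 0)))) (TN.node (TN.node (TN.leaf (nat_lit 0)) (TN.leaf (nat_lit 0))) (TN.node (TN.leaf (nat_lit 0)) (TN.leaf (nat_lit 0))))) (TN.node (TN.node (TN.node (TN.leaf (nat_lit 0)) (TN.leaf (nat_lit 0))) (TN.node (TN.leaf (nat_lit 0)) (TN.leaf (nat_lit 0)))) (TN.node (TN.node (TN.leaf (nat_lit 0)) (TN.leaf (nat_lit 0))) (TN.node (TN.leaf (nat_lit 0)) (TN.leaf (nat_lit 0))))))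
def C_t6 : TN := (TN.node C_t4 C_t5)
def C_t : TN := (TN.node C_t3 C_t6)
noncomputable def C (i : ℕ) : ℕ := TN.get C_t i
def e (i : ℕ) : ℕ := Nat.land (Nat.shiftRight (nat_lit 15) (Nat.mul (nat_lit 2) i)) (nat_lit 3)
def U_t : TL := (TL.node (TL.node (TL.node (TL.node (TL.node (TL.node (TL.leaf [nat_lit 1]) (TL.leaf [nat_lit 8])) (TL.leaf [nat_lit 4])) (TL.node (TL.leaf [nat_lit 1, nat_lit 1]) (TL.leaf [nat_lit 7]))) (TL.node (TL.node (TL.node (TL.leaf [nat_lit 2]) (TL.leaf [nat_lit 7])) (TL.leaf [nat_lit 7])) (TL.node (TL.leaf [nat_lit 3]) (TL.leaf [nat_lit 7])))) (TL.node (TL.node (TL.node (TL.node (TL.leaf [nat_lit 1]) (TL.leaf [nat_lit 8])) (TL.leaf [nat_lit 8])) (TL.node (TL.leaf [nat_lit 5]) (TL.leaf [nat_lit 7]))) (TL.node (TL.node (TL.node (TL.leaf [nat_lit 8]) (TL.leaf [nat_lit 8])) (TL.leaf [nat_lit 3, nat_lit 3])) (TL.node (TL.leaf [nat_lit 2]) (TL.leaf [nat_lit 8]))))) (TL.node (TL.node (TL.node (TL.node (TL.node (TL.leaf [nat_lit 1]) (TL.leaf [nat_lit 8])) (TL.leaf [nat_lit 4, nat_lit 4])) (TL.node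 (TL.leaf [nat_lit 2, nat_lit 2]) (TL.leaf [nat_lit 7]))) (TL.node (TL.node (TL.node (TL.leaf [nat_lit 2]) (TL.leaf [nat_lit 7])) (TL.leaf [nat_lit 8])) (TL.node (TL.leaf [nat_lit 7]) (TL.leaf [nat_lit 8])))) (TL.node (TL.node (TL.node (TL.node (TL.leaf [nat_lit 1]) (TL.leaf [nat_lit 7])) (TL.leaf [nat_lit 2])) (TL.node (TL.leaf [nat_lit 2]) (TL.leaf [nat_lit 5]))) (TL.node (TL.node (TL.node (TL.leaf [nat_lit 7]) (TL.leaf [nat_lit 7])) (TL.leaf [nat_lit 3])) (TL.node (TL.leaf [nat_lit 3]) (TL.leaf [nat_lit 7]))))))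
noncomputable def U (i : ℕ) : List ℕ := TL.get U_t i
def V1_t : TL := (TL.node (TL.node (TL.node (TL.node (TL.node (TL.node (TL.leaf [nat_lit 2, nat_lit 2, nat_lit 2]) (TL.leaf [nat_lit 4, nat_lit 6])) (TL.leaf [nat_lit 6, nat_lit 6, nat_lit 6])) (TL.node (TL.leaf [nat_lit 1, nat_lit 5]) (TL.leaf [nat_lit 6, nat_lit 6, nat_lit 6]))) (TL.node (TL.node (TL.node (TL.leaf [nat_lit 4, nat_lit 4, nat_lit 4]) (TL.leaf [nat_lit 5, nat_lit 6])) (TL.leaf [nat_lit 4, nat_lit 4, nat_lit 4])) (TL.node (TL.leaf [nat_lit 4, nat_lit 4, nat_lit 4]) (TL.leaf [nat_lit 3, nat_lit 3, nat_lit 3])))) (TL.node (TL.node (TL.node (TL.node (TL.leaf [nat_lit 4, nat_lit 4, nat_lit 4]) (TL.leaf [nat_lit 2, nat_lit 2, nat_lit 2])) (TL.leaf [nat_lit 1, nat_lit 4])) (TL.node (TL.leaf [nat_lit 5, nat_lit 5, nat_lit 5]) (TL.leaf [nat_lit 2, nat_lit 3]))) (TL.node (TL.node (TL.node (TL.leaf [nat_lit 1, nat_lit 1, nat_lit 1]) (TL.leaf [nat_lit 3, nat_lit 3, nat_lit 3])) (TL.leaf [nat_lit 3, nat_lit 5])) (TL.node (TL.leaf [nat_lit 5, nat_lit 5, nat_lit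 5]) (TL.leaf [nat_lit 6, nat_lit 6, nat_lit 6]))))) (TL.node (TL.node (TL.node (TL.node (TL.node (TL.leaf [nat_lit 3, nat_lit 3, nat_lit 3]) (TL.leaf [nat_lit 2, nat_lit 4])) (TL.leaf [nat_lit 4, nat_lit 5])) (TL.node (TL.leaf [nat_lit 2, nat_lit 5]) (TL.leaf [nat_lit 2, nat_lit 6]))) (TL.node (TL.node (TL.node (TL.leaf [nat_lit 6, nat_lit 6, nat_lit 6]) (TL.leaf [nat_lit 3, nat_lit 5])) (TL.leaf [nat_lit 1, nat_lit 6])) (TL.node (TL.leaf [nat_lit 2, nat_lit 2, nat_lit 2]) (TL.leaf [nat_lit 4, nat_lit 4, nat_lit 4])))) (TL.node (TL.node (TL.node (TL.node (TL.leaf [nat_lit 6, nat_lit 6, nat_lit 6]) (TL.leaf [nat_lit 4, nat_lit 5])) (TL.leaf [nat_lit 3, nat_lit 4])) (TL.node (TL.leaf [nat_lit 3, nat_lit 3, nat_lit 3]) (TL.leaf [nat_lit 6, nat_lit 6, nat_lit 6]))) (TL.node (TL.node (TL.node (TL.leaf [nat_lit 1, nat_lit 1, nat_lit 1]) (TL.leaf [nat_lit 5, nat_lit 5, nat_lit 5])) (TL.leaf [nat_lit 4, nat_lit 5])) (TL.node (TL.leaf [nat_lit 6, nat_lit 6, nat_lit 6]) (TL.leaf [nat_lit 2, nat_lit 5]))))))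
noncomputable def V1 (i : ℕ) : List ℕ := TL.get V1_t i
def V2_t : TL := (TL.node (TL.node (TL.node (TL.node (TL.node (TL.node (TL.leaf []) (TL.leaf [nat_lit 6, nat_lit 4, nat_lit 1, nat_lit 1])) (TL.leaf [])) (TL.node (TL.leaf [nat_lit 5, nat_lit 1]) (TL.leaf []))) (TL.node (TL.node (TL.node (TL.leaf []) (TL.leaf [nat_lit 6, nat_lit 5, nat_lit 4, nat_lit 2, nat_lit 1, nat_lit 1])) (TL.leaf [])) (TL.node (TL.leaf []) (TL.leaf [])))) (TL.node (TL.node (TL.node (TL.node (TL.leaf []) (TL.leaf [])) (TL.leaf [nat_lit 4, nat_lit 1])) (TL.node (TL.leaf [nat_lit 1, nat_lit 1]) (TL.leaf [nat_lit 3, nat_lit 2, nat_lit 1]))) (TL.node (TL.node (TL.node (TL.leaf []) (TL.leaf [])) (TL.leaf [nat_lit 5, nat_lit 3, nat_lit 2])) (TL.node (TL.leaf [nat_lit 1, nat_lit 1]) (TL.leaf []))))) (TL.node (TL.node (TL.node (TL.node (TL.node (TL.leaf []) (TL.leaf [nat_lit 4, nat_lit 2])) (TL.leaf [nat_lit 5, nat_lit 4, nat_lit 1])) (TL.node (TL.leaf [nat_lit 5, nat_lit 2]) (TL.leaf [nat_lit 6, nat_lit 2]))) (TL.node (TL.node (TL.node (TL.leaf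 []) (TL.leaf [nat_lit 5, nat_lit 3, nat_lit 2])) (TL.leaf [nat_lit 6, nat_lit 1])) (TL.node (TL.leaf []) (TL.leaf [])))) (TL.node (TL.node (TL.node (TL.node (TL.leaf []) (TL.leaf [nat_lit 5, nat_lit 4, nat_lit 1])) (TL.leaf [nat_lit 4, nat_lit 3, nat_lit 1])) (TL.node (TL.leaf []) (TL.leaf []))) (TL.node (TL.node (TL.node (TL.leaf []) (TL.leaf [nat_lit 1, nat_lit 1])) (TL.leaf [nat_lit 5, nat_lit 4, nat_lit 1])) (TL.node (TL.leaf []) (TL.leaf [nat_lit 5, nat_lit 2]))))))
noncomputable def V2 (i : ℕ) : List ℕ := TL.get V2_t i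
def Y_t : TL := (TL.node (TL.node (TL.node (TL.leaf [nat_lit 1, nat_lit 1]) (TL.leaf [nat_lit 2, nat_lit 1])) (TL.leaf [nat_lit 6, nat_lit 3, nat_lit 2, nat_lit 2])) (TL.node (TL.node (TL.leaf [nat_lit 6, nat_lit 6, nat_lit 4, nat_lit 3, nat_lit 2, nat_lit 2, nat_lit 1, nat_lit 1]) (TL.leaf [nat_lit 6, nat_lit 5, nat_lit 5, nat_lit 4, nat_lit 3, nat_lit 3, nat_lit 1])) (TL.leaf [nat_lit 4, nat_lit 4, nat_lit 2, nat_lit 2])))
noncomputable def Y (i : ℕ) : List ℕ := TL.get Y_t i
def O_t : TL := (TL.node (TL.node (TL.node (TL.leaf [nat_lit 0]) (TL.leaf [nat_lit 6, nat_lit 200, nat_lit 264])) (TL.leaf [nat_lit 16, nat_lit 202, nat_lit 528])) (TL.node (TL.node (TL.leaf [nat_lit 16]) (TL.leaf [nat_lit 6, nat_lit 200, nat_lit 128, nat_lit 264, nat_lit 384, nat_lit 203, nat_lit 138, nat_lit 453, nat_lit 88])) (TL.leaf [nat_lit 6])))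
noncomputable def O (i : ℕ) : List ℕ := TL.get O_t i
noncomputable def f1 : ℕ → ℕ := rvE Q B (nat_lit 15) Ru
noncomputable def f2 (j : ℕ) : ℕ := rlE I Ru (nat_lit 33) (nat_lit 27) (U j) (V1 j) (V2 j) (D j)
noncomputable def f3 : ℕ → ℕ := tgR I Ru (nat_lit 33) (nat_lit 3) (nat_lit 27) C D (nat_lit 42) La
noncomputable def f4 : ℕ → ℕ := chE Q B (nat_lit 540) (nat_lit 15) (nat_lit 6) (nat_lit 9) Y O
theorem ra0 : Nat.beq (rng f1 (nat_lit 0) (nat_lit 33)) (nat_lit 0) = true := by decide +kernel
theorem rb0 : Nat.beq (rng f2 (nat_lit 0) (nat_lit 40)) (nat_lit 0) = true := by decide +kernel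
theorem rc0 : Nat.beq (rng f3 (nat_lit 0) (nat_lit 6)) (nat_lit 0) = true := by decide +kernel
theorem rd0 : Nat.beq (rng f4 (nat_lit 0) (nat_lit 6)) (nat_lit 0) = true := by decide +kernel
theorem h1 : ∀ i < 33, f1 i = 0 := by
  have h := zero_lt_zero f1
  have h := zero_lt_add (a := (nat_lit 0)) (n := (nat_lit 33)) (b := (nat_lit 33)) h ra0 rfl
  exact h
theorem h2 : ∀ i < 40, f2 i = 0 := by
  have h := zero_lt_zero f2
  have h := zero_lt_add (a := (nat_lit 0)) (n := (nat_lit 40)) (b := (nat_lit 40)) h rb0 rfl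
  exact h
theorem h3 : ∀ i < 6, f3 i = 0 := by
  have h := zero_lt_zero f3
  have h := zero_lt_add (a := (nat_lit 0)) (n := (nat_lit 6)) (b := (nat_lit 6)) h rc0 rfl
  exact h
theorem h4 : ∀ i < 6, f4 i = 0 := by
  have h := zero_lt_zero f4
  have h := zero_lt_add (a := (nat_lit 0)) (n := (nat_lit 6)) (b := (nat_lit 6)) h rd0 rfl
  exact h
theorem nok : NoK (U43.P) (3 ^ (2 + 1)) := fun _ _ _ _ h =>
  (md.rv (I := I) (K := 33) rfl ⟨rfl, by decide⟩ (upTo_beq (by decide +kernel)) h1).core h (by norm_num)
    (md.syl (by norm_num) rfl (by decide) h4) (by rw [U43.card]; decide) (n := 27) (s := 2) (e := e) (L := Le) (C := C)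
    ⟨rfl, by decide, rfl, by decide, by decide, rfl, by decide⟩ h2 (upTo_beq (by decide +kernel)) (upTo_beq (by decide +kernel)) h3

end Cfsg.Agent.Ct.U43s.S3
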